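import Groth.Agent.GSS45.Supports
import Groth.Agent.SiteMod.UnitExt
import Groth.Prelude.Def_ToposFin2

/-!
The abelian sheaf `ℤ/ℤ_U` and maps out of the module `O/O_U`.
-/

set_option autoImplicit false
set_option backward.isDefEq.respectTransparency false

universe u

open CategoryTheory CategoryTheory.Limits Opposite

namespace Groth.Agent.GSS45

variable {C : Type u} [SmallCategory C] {J : GrothendieckTopology C} (U : C)

section quotient

/-- The part of `ℤ` living on `U`. -/
def suppSub (V : Cᵒᵖ) : AddSubgroup (ULift.{u} ℤ) where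
  carrier := {n | IsEmpty (V.unop ⟶ U) → n = 0}
  zero_mem' := fun _ => rfl
  add_mem' ha hb := fun h => by rw [ha h, hb h, add_zero]
  neg_mem' ha := fun h => by rw [ha h, neg_zero]

lemma suppSub_le {V W : Cᵒᵖ} (f : V ⟶ W) :
    suppSub U V ≤ (suppSub U W).comap (AddMonoidHom.id _) :=
  fun _ hn hW => hn ⟨fun g => hW.false (f.unop ≫ g)⟩

/-- The presheaf quotient of `ℤ` by its part living on `U`. -/
noncomputable def suppPre : Cᵒᵖ ⥤ AddCommGrpCat.{u} where
  obj V := AddCommGrpCat.of (ULift.{u} ℤ ⧸ suppSub U V)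
  map f := AddCommGrpCat.ofHom (QuotientAddGroup.map _ _ (AddMonoidHom.id _) (suppSub_le U f))
  map_id V := by
    ext n
    rfl
  map_comp f g := by
    ext n
    rfl

/-- The quotient map. -/
noncomputable def suppMk : SiteMod.constZ (C := C) ⟶ suppPre U where
  app V := AddCommGrpCat.ofHom (QuotientAddGroup.mk' _)
  naturality V W f := by
    ext n
    rfl

instance : Epi (suppMk U) := by
  have : ∀ V, Epi ((suppMk U).app V) := fun V =>
    (AddCommGrpCat.epi_iff_surjective _).2 QuotientAddGroup.mk_surjective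
  exact NatTrans.epi_of_epi_app _

lemma suppPre_torsionFree (V : Cᵒᵖ) (n : ℕ) (x : (suppPre U).obj V) (hn : n ≠ 0) (hx : n • x = 0) :
    x = 0 := by
  obtain ⟨m, rfl⟩ := QuotientAddGroup.mk_surjective x
  have hm : n • m ∈ suppSub U V := by
    rw [← QuotientAddGroup.eq_zero_iff]
    exact hx
  refine (QuotientAddGroup.eq_zero_iff m).2 fun h => ?_
  apply ULift.down_injective
  have h2 : n • m.down = (0 : ℤ) := congrArg ULift.down (hm h)
  simpa [nsmul_eq_mul, hn] using h2

/-- A map out of `ℤ` vanishing at `U` descends to the quotient. -/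
lemma exists_suppMk_comp {F : Cᵒᵖ ⥤ AddCommGrpCat.{u}} (t : SiteMod.constZ (C := C) ⟶ F)
    (h : t.app (op U) (⟨1⟩ : ULift.{u} ℤ) = 0) : ∃ s : suppPre U ⟶ F, suppMk U ≫ s = t := by
  have hle : ∀ V, suppSub U V ≤ (t.app V).hom.ker := by
    intro V n hn
    by_cases hV : IsEmpty (V.unop ⟶ U)
    · rw [hn hV]; exact map_zero (t.app V).hom
    · obtain ⟨f⟩ := not_isEmpty_iff.1 hV
      have h1 : t.app V (⟨1⟩ : ULift.{u} ℤ) = 0 :=
        ((NatTrans.naturality_apply t (f.op : op U ⟶ V) (⟨1⟩ : ULift.{u} ℤ))).trans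
          ((congrArg (F.map f.op) h).trans (map_zero (F.map f.op).hom))
      have : n = n.down • (⟨1⟩ : ULift.{u} ℤ) := by ext; simp
      rw [this]
      exact (map_zsmul (t.app V).hom _ _).trans ((congrArg (n.down • ·) h1).trans (zsmul_zero _))
  refine ⟨{ app := fun V => AddCommGrpCat.ofHom (QuotientAddGroup.lift _ (t.app V).hom (hle V))
            naturality := fun V W f => ?_ }, ?_⟩
  · ext x
    obtain ⟨n, rfl⟩ := QuotientAddGroup.mk_surjective x
    exact NatTrans.naturality_apply t f n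
  · ext V n
    rfl

end quotient

section free

lemma uniqueTop (V : Cᵒᵖ) : Nonempty (Unique ((⊤_ (Sheaf J (Type u))).obj.obj V)) := by
  let G : Sheaf J (Type u) ⥤ Type u := sheafToPresheaf J (Type u) ⋙ (evaluation Cᵒᵖ (Type u)).obj V
  exact ⟨(Types.isTerminalEquivUnique _ (IsTerminal.isTerminalObj G _ terminalIsTerminal))⟩

/-- The free sheaf on the final object is `ℤ`. -/
noncomputable def topFreeIso :
    (⊤_ (Sheaf J (Type u))).obj ⋙ AddCommGrpCat.free.{u} ≅ SiteMod.constZ (C := C) :=
  NatIso.ofComponents (fun V =>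
      haveI := (uniqueTop (J := J) V).some
      ((FreeAbelianGroup.uniqueEquiv _).trans AddEquiv.ulift.symm).toAddCommGrpIso)
    (fun {V W} f => by
      refine AddCommGrpCat.hom_ext (FreeAbelianGroup.lift_ext _ _ fun x => ?_)
      rfl)

variable (J)

/-- The presheaf map inducing `ℤ[U] ⟶ ℤ`. -/
noncomputable def freeSuppMap :
    (ToposFin.eps J U).obj ⋙ AddCommGrpCat.free.{u} ⟶ SiteMod.constZ (C := C) :=
  Functor.whiskerRight ((terminal.from (ToposFin.eps J U))).hom _ ≫ topFreeIso.hom

/-- `ℤ[e] ≅ ℤ`. -/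
noncomputable def topFreeShIso :
    (ToposFin.freeAb J).obj (⊤_ (Sheaf J (Type u))) ≅
      (constantSheaf J AddCommGrpCat.{u}).obj (AddCommGrpCat.of (ULift.{u} ℤ)) :=
  (presheafToSheaf J AddCommGrpCat.{u}).mapIso topFreeIso

variable {J}

lemma freeSuppMap_of (V : Cᵒᵖ) (x : (ToposFin.eps J U).obj.obj V) :
    (freeSuppMap J U).app V (FreeAbelianGroup.of x) = (⟨1⟩ : ULift.{u} ℤ) := by
  rfl

lemma comp_eq_zero_iff {F : Sheaf J AddCommGrpCat.{u}}
    (t : (constantSheaf J AddCommGrpCat.{u}).obj (AddCommGrpCat.of (ULift.{u} ℤ)) ⟶ F) :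
    (ToposFin.freeAb J).map (terminal.from (ToposFin.eps J U)) ≫ (topFreeShIso J).hom ≫ t = 0 ↔
      ((sheafificationAdjunction J AddCommGrpCat.{u}).homEquiv SiteMod.constZ F t).app (op U)
        (⟨1⟩ : ULift.{u} ℤ) = 0 := by
  let adj := sheafificationAdjunction J AddCommGrpCat.{u}
  let t' := adj.homEquiv SiteMod.constZ F t
  have e : (ToposFin.freeAb J).map (terminal.from (ToposFin.eps J U)) ≫ (topFreeShIso J).hom ≫ t =
      (presheafToSheaf J AddCommGrpCat.{u}).map (freeSuppMap J U) ≫ t := by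
    rw [← Category.assoc]
    exact congrArg (· ≫ t) ((presheafToSheaf J AddCommGrpCat.{u}).map_comp _ _).symm
  have hnat : adj.homEquiv _ F ((presheafToSheaf J AddCommGrpCat.{u}).map (freeSuppMap J U) ≫ t) =
      freeSuppMap J U ≫ t' := adj.homEquiv_naturality_left _ _
  have h0 : ∀ P, adj.homEquiv P F 0 = 0 := fun P => by
    rw [adj.homEquiv_unit, Functor.map_zero, comp_zero]
  rw [e]
  have hiff : (presheafToSheaf J AddCommGrpCat.{u}).map (freeSuppMap J U) ≫ t = 0 ↔
      freeSuppMap J U ≫ t' = 0 :=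
    ⟨fun h => hnat.symm.trans ((congrArg (adj.homEquiv _ F) h).trans (h0 _)),
      fun h => (adj.homEquiv _ F).injective (hnat.trans (h.trans (h0 _).symm))⟩
  refine hiff.trans ⟨fun h => ?_, fun h => ?_⟩
  · let y : (ToposFin.eps J U).obj.obj (op U) := (toSheafify J (yoneda.obj U)).app (op U) (𝟙 U)
    have hx := ConcreteCategory.congr_hom (NatTrans.congr_app h (op U)) (FreeAbelianGroup.of y)
    refine Eq.trans ?_ hx
    exact (congrArg (t'.app (op U)).hom (freeSuppMap_of U (op U) y)).symm
  · let a : (ToposFin.eps J U).obj ⟶ F.obj ⋙ forget AddCommGrpCat.{u} :=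
      { app := fun V => TypeCat.ofHom fun _ => (t'.app V).hom (⟨1⟩ : ULift.{u} ℤ)
        naturality := fun V W f => by
          ext x
          exact NatTrans.naturality_apply t' f (⟨1⟩ : ULift.{u} ℤ) }
    let b : (ToposFin.eps J U).obj ⟶ F.obj ⋙ forget AddCommGrpCat.{u} :=
      { app := fun V => TypeCat.ofHom fun _ => (0 : F.obj.obj V)
        naturality := fun V W f => by
          ext x
          exact (map_zero (F.obj.map f).hom).symm }
    have hab : a = b := by
      refine sheafify_hom_ext J a b ((sheafCompose J (forget AddCommGrpCat.{u})).obj F).property ?_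
      ext V f
      change t'.app V (⟨1⟩ : ULift.{u} ℤ) = 0
      exact (NatTrans.naturality_apply t' (f.op : op U ⟶ V) (⟨1⟩ : ULift.{u} ℤ)).trans
        ((congrArg (F.obj.map f.op) h).trans (map_zero (F.obj.map f.op).hom))
    refine NatTrans.ext (funext fun V => AddCommGrpCat.hom_ext (FreeAbelianGroup.lift_ext _ _ fun x => ?_))
    have hx : (t'.app V).hom (⟨1⟩ : ULift.{u} ℤ) = 0 := ConcreteCategory.congr_hom (NatTrans.congr_app hab V) x
    refine Eq.trans ?_ hx
    exact congrArg (t'.app V).hom (freeSuppMap_of U V x)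

end free

section torFree

variable (J)

/-- `ℤ ⟶ ` the sheafified quotient. -/
noncomputable def quotZπ' : (ToposFin.freeAb J).obj (⊤_ (Sheaf J (Type u))) ⟶
    (presheafToSheaf J AddCommGrpCat.{u}).obj (suppPre U) :=
  (topFreeShIso J).hom ≫ (presheafToSheaf J AddCommGrpCat.{u}).map (suppMk U)

lemma quotZπ'_condition :
    (ToposFin.freeAb J).map (terminal.from (ToposFin.eps J U)) ≫ quotZπ' J U = 0 := by
  refine (comp_eq_zero_iff U _).2 ?_
  rw [← Category.comp_id ((presheafToSheaf J AddCommGrpCat.{u}).map (suppMk U)),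
    Adjunction.homEquiv_naturality_left]
  have : (suppMk U).app (op U) (⟨1⟩ : ULift.{u} ℤ) = 0 :=
    (QuotientAddGroup.eq_zero_iff _).2 fun h => (h.false (𝟙 U)).elim
  exact (congrArg (((sheafificationAdjunction J AddCommGrpCat.{u}).homEquiv (suppPre U) _ (𝟙 _)).app (op U)).hom this).trans
    (map_zero (((sheafificationAdjunction J AddCommGrpCat.{u}).homEquiv (suppPre U) _ (𝟙 _)).app (op U)).hom)

/-- `ℤ/ℤ_U` is the sheafified quotient. -/
noncomputable def quotZIso :
    ToposFin.quotZ (ToposFin.eps J U) ≅ (presheafToSheaf J AddCommGrpCat.{u}).obj (suppPre U) := by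
  have : Epi ((presheafToSheaf J AddCommGrpCat.{u}).map (suppMk U)) :=
    (presheafToSheaf J AddCommGrpCat.{u}).map_epi _
  have : Epi (quotZπ' J U) := epi_comp _ _
  refine (cokernelIsCokernel _).coconePointUniqueUpToIso
    (CokernelCofork.IsColimit.ofπ' (quotZπ' J U) (quotZπ'_condition J U) fun {F} g hg => ?_)
  have h1 : ∃ l, quotZπ' J U ≫ l = g := by
    let adj := sheafificationAdjunction J AddCommGrpCat.{u}
    let t := (topFreeShIso J).inv ≫ g
    have ht : (topFreeShIso J).hom ≫ t = g := Iso.hom_inv_id_assoc _ _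
    obtain ⟨s, hs⟩ := exists_suppMk_comp U (adj.homEquiv SiteMod.constZ F t)
      ((comp_eq_zero_iff U t).1 (by rw [ht]; exact hg))
    refine ⟨(adj.homEquiv _ F).symm s, Eq.trans (Category.assoc _ _ _) (Eq.trans (congrArg ((topFreeShIso J).hom ≫ ·) ?_) ht)⟩
    exact (adj.homEquiv_naturality_left_symm _ _).symm.trans
      ((congrArg (adj.homEquiv _ F).symm hs).trans ((adj.homEquiv _ F).symm_apply_apply t))
  exact ⟨h1.choose, h1.choose_spec⟩

/-- `ℤ/ℤ_U` is torsion-free. -/
theorem torFree_quotZ : SiteCoh.TorFree (ToposFin.quotZ (ToposFin.eps J U)) :=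
  SiteCoh.TorFree.of_mono (quotZIso J U).hom (SiteMod.torFree_sheafify _ (suppPre_torsionFree U))

end torFree

section module

variable {O : Sheaf J CommRingCat.{u}}

lemma restr_map_eq_zero_iff {M : ModSite.Mod O} (φ : ModSite.unit O ⟶ M) :
    (ModSite.restr O U).map φ = 0 ↔ φ.val.app (op U) (1 : (ModSite.ringSh O).obj.obj (op U)) = 0 := by
  constructor
  · intro h
    exact congrArg (fun ψ : (ModSite.restr O U).obj (ModSite.unit O) ⟶ (ModSite.restr O U).obj M =>
      (ψ.val.app (op (Over.mk (𝟙 U)))).hom (1 : (ModSite.ringSh O).obj.obj (op U))) h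
  · intro h
    apply (SheafOfModules.toSheaf _).map_injective
    ext Y m
    change φ.val.app (op Y.unop.left) m = 0
    have h1 : φ.val.app (op Y.unop.left) (1 : (ModSite.ringSh O).obj.obj (op Y.unop.left)) = 0 := by
      have e := (Mod48.app_res φ.val Y.unop.hom.op (1 : (ModSite.ringSh O).obj.obj (op U))).trans
        ((congrArg (Mod48.res (Mod48.pre M) Y.unop.hom.op) h).trans (map_zero _))
      refine Eq.trans (congrArg (φ.val.app (op Y.unop.left)).hom ?_) e
      exact ((ModSite.ringSh O).obj.map Y.unop.hom.op).hom.map_one.symm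
    have hm : m = (show (ModSite.ringSh O).obj.obj (op Y.unop.left) from m) •
        (show (ModSite.unit O).val.obj (op Y.unop.left) from
          (1 : (ModSite.ringSh O).obj.obj (op Y.unop.left))) :=
      (mul_one (show (ModSite.ringSh O).obj.obj (op Y.unop.left) from m)).symm
    exact (congrArg (φ.val.app (op Y.unop.left)).hom hm).trans
      ((map_smul _ _ _).trans ((congrArg _ h1).trans (smul_zero _)))

lemma unitSec_supp_iff {M : ModSite.Mod O} (φ : ModSite.unit O ⟶ M) :
    (ToposFin.freeAb J).map (terminal.from (ToposFin.eps J U)) ≫ (topFreeShIso J).hom ≫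
        SiteMod.unitSec (ModSite.ringSh O) ≫ (SheafOfModules.toSheaf (ModSite.ringSh O)).map φ = 0 ↔
      (ModSite.extZeroAdj O U).counit.app (ModSite.unit O) ≫ φ = 0 := by
  refine (comp_eq_zero_iff U _).trans (Iff.trans ?_ (ExtSupp.mem_homZ_iff U φ))
  rw [SiteMod.sheafHomEquiv_unitSec_comp]
  exact (restr_map_eq_zero_iff U φ).symm

variable (O)

/-- `ℤ/ℤ_U ⟶ O/O_U`. -/
noncomputable def quotZToQuotOn : ToposFin.quotZ (ToposFin.eps J U) ⟶
    (SheafOfModules.toSheaf (ModSite.ringSh O)).obj ((ModSite.quotOn O U).obj (ModSite.unit O)) :=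
  cokernel.desc _ ((topFreeShIso J).hom ≫ SiteMod.unitSec (ModSite.ringSh O) ≫
      (SheafOfModules.toSheaf (ModSite.ringSh O)).map ((ModSite.quotOnπ O U).app (ModSite.unit O)))
    ((unitSec_supp_iff U _).2 (cokernel.condition _))

lemma π_quotZToQuotOn_comp {M : ModSite.Mod O} (g : (ModSite.quotOn O U).obj (ModSite.unit O) ⟶ M) :
    cokernel.π _ ≫ quotZToQuotOn U O ≫ (SheafOfModules.toSheaf (ModSite.ringSh O)).map g =
      (topFreeShIso J).hom ≫ SiteMod.unitSec (ModSite.ringSh O) ≫
        (SheafOfModules.toSheaf (ModSite.ringSh O)).map ((ModSite.quotOnπ O U).app (ModSite.unit O) ≫ g) := by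
  rw [quotZToQuotOn, cokernel.π_desc_assoc, Functor.map_comp, Category.assoc, Category.assoc]

/-- Maps out of `O/O_U` are maps out of `ℤ/ℤ_U`. -/
lemma quotZToQuotOn_bijective (M : ModSite.Mod O) :
    Function.Bijective fun g : (ModSite.quotOn O U).obj (ModSite.unit O) ⟶ M =>
      quotZToQuotOn U O ≫ (SheafOfModules.toSheaf (ModSite.ringSh O)).map g := by
  constructor
  · intro g g' h
    refine coequalizer.hom_ext ((SiteMod.unitSec_bijective (ModSite.ringSh O) M).1 ?_)
    refine (cancel_epi (topFreeShIso J).hom).1 ?_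
    exact (π_quotZToQuotOn_comp U O g).symm.trans
      ((congrArg (cokernel.π _ ≫ ·) h).trans (π_quotZToQuotOn_comp U O g'))
  · intro k
    obtain ⟨φ, hφ⟩ := (SiteMod.unitSec_bijective (ModSite.ringSh O) M).2
      ((topFreeShIso J).inv ≫ cokernel.π _ ≫ k)
    have he : (topFreeShIso J).hom ≫ SiteMod.unitSec (ModSite.ringSh O) ≫
        (SheafOfModules.toSheaf (ModSite.ringSh O)).map φ = cokernel.π _ ≫ k :=
      (congrArg ((topFreeShIso J).hom ≫ ·) hφ).trans (Iso.hom_inv_id_assoc _ _)
    have h0 : (ModSite.extZeroAdj O U).counit.app (ModSite.unit O) ≫ φ = 0 :=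
      (unitSec_supp_iff U φ).1 (by rw [he, cokernel.condition_assoc, zero_comp])
    refine ⟨cokernel.desc _ φ h0, (cancel_epi (cokernel.π _)).1 ?_⟩
    refine (π_quotZToQuotOn_comp U O _).trans ?_
    refine Eq.trans ?_ he
    exact congrArg (fun x => (topFreeShIso J).hom ≫ SiteMod.unitSec (ModSite.ringSh O) ≫
      (SheafOfModules.toSheaf (ModSite.ringSh O)).map x) (cokernel.π_desc _ _ _)

variable {O}

/-- Transferring maps out of an object along a functor. -/
noncomputable def coyoTransferIso {A B : Type (u + 1)} [Category.{u} A] [Preadditive A] [Category.{u} B]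
    [Preadditive B] (G : A ⥤ B) [G.Additive] {X : B} {X' : A} (θ : X ⟶ G.obj X')
    (h : ∀ M : A, Function.Bijective fun g : X' ⟶ M => θ ≫ G.map g) : coyo X' ≅ G ⋙ coyo X :=
  NatIso.ofComponents (fun M => (AddEquiv.ofBijective
      (AddMonoidHom.mk' (fun g : X' ⟶ M => θ ≫ G.map g)
        (fun a b => by rw [Functor.map_add, Preadditive.comp_add])) (h M)).toAddCommGrpIso)
    (fun {M N} f => by
      ext g
      exact (congrArg (θ ≫ ·) (G.map_comp g f)).trans (Category.assoc _ _ _).symm)

variable (O)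

/-- Maps out of `O/O_U` are global sections with supports of the underlying abelian sheaf. -/
noncomputable def coyoQuotOnIso : coyo ((ModSite.quotOn O U).obj (ModSite.unit O)) ≅
    SheafOfModules.toSheaf (ModSite.ringSh O) ⋙ coyo (ToposFin.quotZ (ToposFin.eps J U)) :=
  coyoTransferIso _ (quotZToQuotOn U O) (quotZToQuotOn_bijective U O)

/-- Maps out of `O` are global sections of the underlying abelian sheaf. -/
noncomputable def coyoUnitIso : coyo (ModSite.unit O) ≅
    SheafOfModules.toSheaf (ModSite.ringSh O) ⋙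
      coyo ((constantSheaf J AddCommGrpCat.{u}).obj (AddCommGrpCat.of (ULift.{u} ℤ))) :=
  coyoTransferIso _ (SiteMod.unitSec (ModSite.ringSh O)) (SiteMod.unitSec_bijective _)

end module

end Groth.Agent.GSS45
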