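import Groth.Agent.GSS45.DerivedHom
import Groth.Agent.GSS45.QuotZ
import Groth.Agent.SiteMod.SheafHomAcyclic

/-!
Spectral sequences for cohomology and Ext with supports on a ringed site.
-/

set_option autoImplicit false
set_option backward.isDefEq.respectTransparency false

universe u

open CategoryTheory CategoryTheory.Limits Opposite

namespace Groth.Agent.GSS45

section ite

lemma isZero_punit : IsZero (AddCommGrpCat.of PUnit.{u + 1}) :=
  (IsZero.iff_id_eq_zero _).2 (AddCommGrpCat.hom_ext (AddMonoidHom.ext fun _ => Subsingleton.elim (α := PUnit.{u + 1}) _ _))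

/-- The composite functor spectral sequence for abelian groups, with explicit degrees. -/
theorem exists_ss_ite {A D : Type (u + 1)} [Category.{u} A] [Abelian A] [HasInjectiveResolutions A]
    [Category.{u} D] [Abelian D] [HasInjectiveResolutions D]
    (T : A ⥤ D) [T.Additive] (S : D ⥤ AddCommGrpCat.{u}) [S.Additive] [PreservesFiniteLimits S]
    (hT : ∀ Q : A, Injective Q → ∀ q : ℕ, 0 < q → IsZero ((S.rightDerived q).obj (T.obj Q))) (N : A)
    (X : ℕ → AddCommGrpCat.{u}) (eX : ∀ n : ℕ, Nonempty (((T ⋙ S).rightDerived n).obj N ≅ X n))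
    (Y : ℕ → ℕ → AddCommGrpCat.{u})
    (eY : ∀ p q : ℕ, Nonempty ((S.rightDerived p).obj ((T.rightDerived q).obj N) ≅ Y p q)) :
    ∃ (E : E₂CohomologicalSpectralSequence AddCommGrpCat.{u})
      (a : SpSeq.Abutment E (fun n : ℤ => if 0 ≤ n then X n.toNat else AddCommGrpCat.of PUnit.{u + 1})),
      (∀ n, a.IsFinite n) ∧ SpSeq.IsBounded E ∧
      ∀ p q : ℤ, Nonempty ((E.page 2 le_rfl).X (p, q) ≅
        (if 0 ≤ p ∧ 0 ≤ q then Y p.toNat q.toNat else AddCommGrpCat.of PUnit.{u + 1})) := by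
  refine exists_spectralSequence_comp T S hT N (fun n => ?_) (fun n hn => ?_) (fun p q => ?_)
    (fun p q hpq => ?_)
  · obtain ⟨e⟩ := eX n
    exact ⟨e ≪≫ eqToIso (by simp)⟩
  · rw [if_neg (by lia)]
    exact isZero_punit
  · obtain ⟨e⟩ := eY p q
    exact ⟨e ≪≫ eqToIso (by simp)⟩
  · rw [if_neg (by lia)]
    exact isZero_punit

end ite

variable {C : Type u} [SmallCategory C] {J : GrothendieckTopology C} {O : Sheaf J CommRingCat.{u}}
  [HasInjectiveResolutions (ModSite.Mod O)]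

section derived

/-- Derived functors of maps from a torsion-free sheaf into the underlying abelian sheaf. -/
theorem nonempty_toSheaf_coyo_rightDerived {Z : Sheaf J AddCommGrpCat.{u}} (hZ : SiteCoh.TorFree Z)
    (F : ModSite.Mod O) (n : ℕ) :
    Nonempty (((SheafOfModules.toSheaf (ModSite.ringSh O) ⋙ coyo Z).rightDerived n).obj F ≅
      AddCommGrpCat.of (Abelian.Ext.{u} Z (ModSite.toAb F) n)) := by
  have := Mod48.toSheaf_preservesColimits (O := O)
  obtain ⟨e⟩ := nonempty_rightDerived_comp (SheafOfModules.toSheaf (ModSite.ringSh O)) (coyo Z)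
    (fun I hI q hq => by
      obtain ⟨k, rfl⟩ := Nat.exists_eq_succ_of_ne_zero hq.ne'
      exact isZero_coyo_rightDerived Z _ _
        (SiteCoh.ext_subsingleton_of_torExtends (SiteMod.torExtends_toSheaf_injective _ I) k Z hZ)) F n
  exact ⟨e ≪≫ (coyoRightDerivedIso Z n).app _⟩

theorem isZero_toSheaf_coyo_rightDerived {Z : Sheaf J AddCommGrpCat.{u}} (hZ : SiteCoh.TorFree Z)
    {F : ModSite.Mod O} (hF : SiteCoh.TorExtends (ModSite.toAb F)) (q : ℕ) (hq : 0 < q) :
    IsZero (((SheafOfModules.toSheaf (ModSite.ringSh O) ⋙ coyo Z).rightDerived q).obj F) := by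
  obtain ⟨k, rfl⟩ := Nat.exists_eq_succ_of_ne_zero hq.ne'
  obtain ⟨e⟩ := nonempty_toSheaf_coyo_rightDerived hZ F (k + 1)
  have := SiteCoh.ext_subsingleton_of_torExtends hF k Z hZ
  exact IsZero.of_iso ((IsZero.iff_id_eq_zero _).2
    (AddCommGrpCat.hom_ext (AddMonoidHom.ext fun _ => Subsingleton.elim (α := Abelian.Ext.{u} Z (ModSite.toAb F) (k + 1)) _ _))) e

end derived

section results

variable (U : C) [ModSite.HasPushOver O U]

/-- Global sections of the internal hom composed with supports. -/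
noncomputable def sheafHomQuotIso (M : ModSite.Mod O) [ModSite.HasSheafHom M] :
    ModSite.sheafHom M ⋙ SheafOfModules.toSheaf (ModSite.ringSh O) ⋙
        coyo (ToposFin.quotZ (ToposFin.eps J U)) ≅ coyo ((ModSite.quotOn O U).obj M) := by
  have := quotOn_additive (O := O) U
  exact Functor.isoWhiskerLeft (ModSite.sheafHom M)
    ((coyoQuotOnIso U O).symm ≪≫ (adjCoyoIso (quotSectAdj U) (ModSite.unit O)).symm) ≪≫
    gammaZHomIso U M

/-- `H^q_Z` in terms of sections with supports. -/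
noncomputable def sectUnitIso :
    ModSite.sectOn O U ⋙ SheafOfModules.toSheaf (ModSite.ringSh O) ⋙
        coyo ((constantSheaf J AddCommGrpCat.{u}).obj (AddCommGrpCat.of (ULift.{u} ℤ))) ≅
      SheafOfModules.toSheaf (ModSite.ringSh O) ⋙ coyo (ToposFin.quotZ (ToposFin.eps J U)) := by
  have := quotOn_additive (O := O) U
  exact Functor.isoWhiskerLeft (ModSite.sectOn O U) (coyoUnitIso O).symm ≪≫
    adjCoyoIso (quotSectAdj U) (ModSite.unit O) ≪≫ coyoQuotOnIso U O

/-- `H^p(ℋ^q_Z) ⇒ H^{p+q}_Z`. -/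
theorem exists_ss_HZ (M : ModSite.Mod O) :
    ∃ (E : E₂CohomologicalSpectralSequence AddCommGrpCat.{u})
      (a : SpSeq.Abutment E (fun n : ℤ =>
        if 0 ≤ n then AddCommGrpCat.of (ModSite.HZ U M n.toNat) else AddCommGrpCat.of PUnit.{u + 1})),
      (∀ n : ℤ, a.IsFinite n) ∧ SpSeq.IsBounded E ∧
      ∀ p q : ℤ, Nonempty ((E.page 2 le_rfl).X (p, q) ≅
        (if 0 ≤ p ∧ 0 ≤ q then AddCommGrpCat.of (ModSite.HC O ((ModSite.HZsh O U q.toNat).obj M) p.toNat)
          else AddCommGrpCat.of PUnit.{u + 1})) := by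
  refine exists_ss_ite (ModSite.sectOn O U) (SheafOfModules.toSheaf (ModSite.ringSh O) ⋙
      coyo ((constantSheaf J AddCommGrpCat.{u}).obj (AddCommGrpCat.of (ULift.{u} ℤ))))
    (fun I hI q hq => ?_) M (fun n => AddCommGrpCat.of (ModSite.HZ U M n)) (fun n => ?_)
    (fun p q => AddCommGrpCat.of (ModSite.HC O ((ModSite.HZsh O U q).obj M) p)) (fun p q => ?_)
  · have := injective_sectOn U I
    exact isZero_toSheaf_coyo_rightDerived SiteMod.torFree_constantSheaf
      (SiteMod.torExtends_toSheaf_injective _ _) q hq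
  · obtain ⟨e⟩ := nonempty_toSheaf_coyo_rightDerived (torFree_quotZ J U) M n
    exact ⟨(rightDerivedIsoOfIso (sectUnitIso U) n).app M ≪≫ e⟩
  · exact nonempty_toSheaf_coyo_rightDerived SiteMod.torFree_constantSheaf _ p

variable [HasExt.{u} (ModSite.Mod O)] (M N : ModSite.Mod O) [ModSite.HasSheafHom M]

/-- Ext with supports is Ext out of `M/M_U`. -/
theorem nonempty_extZR_iso (q : ℕ) :
    Nonempty (ExtSupp.ExtZR U M q ≅ Abelian.extFunctorObj ((ModSite.quotOn O U).obj M) q) := by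
  have := enoughInjectives_of_resolutions (C := ModSite.Mod O)
  exact ⟨rightDerivedIsoOfIso (gammaZHomIso U M) q ≪≫ coyoRightDerivedIso _ q⟩

/-- `H^p_Z(ℰxt^q) ⇒ Ext^{p+q}_Z`. -/
theorem exists_ss_HZ_extSh :
    ∃ (E : E₂CohomologicalSpectralSequence AddCommGrpCat.{u})
      (a : SpSeq.Abutment E (fun n : ℤ =>
        if 0 ≤ n then AddCommGrpCat.of (ExtSupp.ExtZ U M N n.toNat) else AddCommGrpCat.of PUnit.{u + 1})),
      (∀ n, a.IsFinite n) ∧ SpSeq.IsBounded E ∧
      ∀ p q : ℤ, Nonempty ((E.page 2 le_rfl).X (p, q) ≅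
        (if 0 ≤ p ∧ 0 ≤ q then AddCommGrpCat.of (ModSite.HZ U ((ModSite.extSh M q.toNat).obj N) p.toNat)
         else AddCommGrpCat.of PUnit.{u + 1})) := by
  have := enoughInjectives_of_resolutions (C := ModSite.Mod O)
  refine exists_ss_ite (ModSite.sheafHom M)
    (SheafOfModules.toSheaf (ModSite.ringSh O) ⋙ coyo (ToposFin.quotZ (ToposFin.eps J U)))
    (fun I hI q hq => ?_) N (fun n => AddCommGrpCat.of (ExtSupp.ExtZ U M N n)) (fun n => ?_)
    (fun p q => AddCommGrpCat.of (ModSite.HZ U ((ModSite.extSh M q).obj N) p)) (fun p q => ?_)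
  · exact isZero_toSheaf_coyo_rightDerived (torFree_quotZ J U) (SiteMod.torExtends_sheafHom M I) q hq
  · exact ⟨(rightDerivedIsoOfIso (sheafHomQuotIso U M) n).app N ≪≫ (coyoRightDerivedIso _ n).app N⟩
  · exact nonempty_toSheaf_coyo_rightDerived (torFree_quotZ J U) _ p

/-- `H^p(ℰxt^q_Z) ⇒ Ext^{p+q}_Z`. -/
theorem exists_ss_HC_extZSh :
    ∃ (E : E₂CohomologicalSpectralSequence AddCommGrpCat.{u})
      (a : SpSeq.Abutment E (fun n : ℤ =>
        if 0 ≤ n then AddCommGrpCat.of (ExtSupp.ExtZ U M N n.toNat) else AddCommGrpCat.of PUnit.{u + 1})),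
      (∀ n, a.IsFinite n) ∧ SpSeq.IsBounded E ∧
      ∀ p q : ℤ, Nonempty ((E.page 2 le_rfl).X (p, q) ≅
        (if 0 ≤ p ∧ 0 ≤ q then AddCommGrpCat.of (ModSite.HC O ((ModSite.extZSh U M q.toNat).obj N) p.toNat)
         else AddCommGrpCat.of PUnit.{u + 1})) := by
  have := enoughInjectives_of_resolutions (C := ModSite.Mod O)
  refine exists_ss_ite (ModSite.sheafHom M ⋙ ModSite.sectOn O U)
    (SheafOfModules.toSheaf (ModSite.ringSh O) ⋙
      coyo ((constantSheaf J AddCommGrpCat.{u}).obj (AddCommGrpCat.of (ULift.{u} ℤ))))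
    (fun I hI q hq => ?_) N (fun n => AddCommGrpCat.of (ExtSupp.ExtZ U M N n)) (fun n => ?_)
    (fun p q => AddCommGrpCat.of (ModSite.HC O ((ModSite.extZSh U M q).obj N) p)) (fun p q => ?_)
  · have := injective_sectOn U I
    exact IsZero.of_iso (isZero_toSheaf_coyo_rightDerived SiteMod.torFree_constantSheaf
        (SiteMod.torExtends_sheafHom M ((ModSite.sectOn O U).obj I)) q hq)
      ((Functor.rightDerived _ q).mapIso ((sectSheafHomIso U M).app I))
  · exact ⟨(rightDerivedIsoOfIso (Functor.isoWhiskerLeft (ModSite.sheafHom M ⋙ ModSite.sectOn O U)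
      (coyoUnitIso O).symm ≪≫ gammaZHomIso U M) n).app N ≪≫ (coyoRightDerivedIso _ n).app N⟩
  · exact nonempty_toSheaf_coyo_rightDerived SiteMod.torFree_constantSheaf _ p

omit [ModSite.HasSheafHom M] in
/-- `Ext^p(M, ℋ^q_Z) ⇒ Ext^{p+q}_Z`. -/
theorem exists_ss_Ext_HZsh :
    ∃ (E : E₂CohomologicalSpectralSequence AddCommGrpCat.{u})
      (a : SpSeq.Abutment E (fun n : ℤ =>
        if 0 ≤ n then AddCommGrpCat.of (ExtSupp.ExtZ U M N n.toNat) else AddCommGrpCat.of PUnit.{u + 1})),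
      (∀ n, a.IsFinite n) ∧ SpSeq.IsBounded E ∧
      ∀ p q : ℤ, Nonempty ((E.page 2 le_rfl).X (p, q) ≅
        (if 0 ≤ p ∧ 0 ≤ q then AddCommGrpCat.of (Abelian.Ext.{u} M ((ModSite.HZsh O U q.toNat).obj N) p.toNat)
         else AddCommGrpCat.of PUnit.{u + 1})) := by
  have := enoughInjectives_of_resolutions (C := ModSite.Mod O)
  have := quotOn_additive (O := O) U
  refine exists_ss_ite (ModSite.sectOn O U) (coyo M)
    (fun I hI q hq => ?_) N (fun n => AddCommGrpCat.of (ExtSupp.ExtZ U M N n)) (fun n => ?_)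
    (fun p q => AddCommGrpCat.of (Abelian.Ext.{u} M ((ModSite.HZsh O U q).obj N) p)) (fun p q => ?_)
  · obtain ⟨k, rfl⟩ := Nat.exists_eq_succ_of_ne_zero hq.ne'
    have := injective_sectOn U I
    exact Functor.isZero_rightDerived_obj_injective_succ _ _ _
  · exact ⟨(rightDerivedIsoOfIso (adjCoyoIso (quotSectAdj U) M) n).app N ≪≫ (coyoRightDerivedIso _ n).app N⟩
  · exact ⟨(coyoRightDerivedIso M p).app _⟩

end results

section noSupport

variable [HasExt.{u} (ModSite.Mod O)] (M N : ModSite.Mod O) [ModSite.HasSheafHom M]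

/-- The local-to-global Ext sequence. -/
theorem exists_ss_HC_extSh :
    ∃ (E : E₂CohomologicalSpectralSequence AddCommGrpCat.{u})
      (a : SpSeq.Abutment E (fun n : ℤ =>
        if 0 ≤ n then AddCommGrpCat.of (Abelian.Ext.{u} M N n.toNat) else AddCommGrpCat.of PUnit.{u + 1})),
      (∀ n : ℤ, a.IsFinite n) ∧ SpSeq.IsBounded E ∧
      ∀ p q : ℤ, Nonempty ((E.page 2 le_rfl).X (p, q) ≅
        (if 0 ≤ p ∧ 0 ≤ q then AddCommGrpCat.of (ModSite.HC O ((ModSite.extSh M q.toNat).obj N) p.toNat)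
          else AddCommGrpCat.of PUnit.{u + 1})) := by
  have := enoughInjectives_of_resolutions (C := ModSite.Mod O)
  refine exists_ss_ite (ModSite.sheafHom M) (SheafOfModules.toSheaf (ModSite.ringSh O) ⋙
      coyo ((constantSheaf J AddCommGrpCat.{u}).obj (AddCommGrpCat.of (ULift.{u} ℤ))))
    (fun I hI q hq => ?_) N (fun n => AddCommGrpCat.of (Abelian.Ext.{u} M N n)) (fun n => ?_)
    (fun p q => AddCommGrpCat.of (ModSite.HC O ((ModSite.extSh M q).obj N) p)) (fun p q => ?_)
  · exact isZero_toSheaf_coyo_rightDerived SiteMod.torFree_constantSheaf (SiteMod.torExtends_sheafHom M I) q hq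
  · exact ⟨(rightDerivedIsoOfIso (Functor.isoWhiskerLeft (ModSite.sheafHom M) (coyoUnitIso O).symm ≪≫
      sheafHomCoyoIso O M) n).app N ≪≫ (coyoRightDerivedIso _ n).app N⟩
  · exact nonempty_toSheaf_coyo_rightDerived SiteMod.torFree_constantSheaf _ p

end noSupport

end Groth.Agent.GSS45
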