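import Groth.Agent.GSS45.Descend
import Groth.Agent.GSS45.SiteSS
import Groth.Agent.QC70.ClosedHomInj
import Groth.Agent.SiteMod.PullTensorIso
import Groth.Prelude.Def_FSch6

/-!
Direct image along a closed immersion and the internal hom.
-/

set_option autoImplicit false
set_option backward.isDefEq.respectTransparency false

noncomputable section

universe u

open CategoryTheory Limits AlgebraicGeometry TopologicalSpace Opposite
open Groth.Agent.QC70 Groth.Agent.Props58.HomO

namespace Groth.Agent.GSS45.ClosedHom

variable {X P : Scheme.{u}} (i : X ⟶ P) [IsClosedImmersion i]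

local notation "p" => Scheme.Modules.pushforward i

theorem full_pushforward : (p).Full := ⟨fun h => exists_map_eq h⟩

theorem preservesEpimorphisms_pushforward : (p).PreservesEpimorphisms := by
  refine ⟨fun {M N} φ _ => QC70.epi_of_locally_surjective _ fun W y q hq => ?_⟩
  let y' : Γ(N, i ⁻¹ᵁ W) := y
  by_cases hr : q ∈ Set.range i
  · obtain ⟨z, rfl⟩ := hr
    obtain ⟨T, hT, hm⟩ := GSS45.exists_preimage (O := X.sheaf) φ (i ⁻¹ᵁ W) y'
    obtain ⟨V, g, hg, hzV⟩ := hT z hq
    obtain ⟨m, hm⟩ := hm g hg
    refine ⟨bigOpen i V ⊓ W, inf_le_right, ?_, ?_, ?_⟩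
    · exact res (M := M) (U := V) (V := i ⁻¹ᵁ (bigOpen i V ⊓ W))
        ((i.preimage_mono inf_le_left).trans (preimage_bigOpen i V).le) m
    · refine ⟨?_, hq⟩
      change z ∈ i ⁻¹ᵁ bigOpen i V
      rwa [preimage_bigOpen]
    · change φ.app _ (res M _ m) = res N (i.preimage_mono inf_le_right) y'
      rw [app_res]
      refine (congrArg (res N _) (show φ.app V m = res N g.le y' from hm)).trans ?_
      exact res_res _ _ _
  · refine ⟨W ⊓ Descend.compl i, inf_le_left, (0 : Γ(M, i ⁻¹ᵁ (W ⊓ Descend.compl i))), ⟨hq, hr⟩, ?_⟩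
    exact (Descend.eq_zero_of_le_compl (Descend.isKilled_pushforward i N) inf_le_right _).trans
      (Descend.eq_zero_of_le_compl (Descend.isKilled_pushforward i N) inf_le_right _).symm

theorem preservesFiniteLimits_pushforward : PreservesFiniteLimits (p) :=
  have : (p).IsRightAdjoint := (Scheme.Modules.pullbackPushforwardAdjunction i).isRightAdjoint
  inferInstance

theorem preservesFiniteColimits_pushforward : PreservesFiniteColimits (p) := by
  have := preservesFiniteLimits_pushforward i
  have := preservesEpimorphisms_pushforward i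
  refine (Functor.preservesFiniteColimits_iff_forall_exact_map_and_epi _).mpr fun S hS => ?_
  have := hS.epi_g
  exact ⟨(((Functor.preservesFiniteLimits_iff_forall_exact_map_and_mono _).mp inferInstance) S hS).1,
    inferInstance⟩

/-- Inverse image undoes direct image. -/
def counitIso : p ⋙ Scheme.Modules.pullback i ≅ 𝟭 X.Modules :=
  have := full_pushforward i
  have := QC70.faithful_pushforward i
  asIso (Scheme.Modules.pullbackPushforwardAdjunction i).counit

/-- Inverse images commute with tensor products. -/
def pullTensIso (N : P.Modules) :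
    Mod48.tR (O := P.sheaf) N ⋙ Scheme.Modules.pullback i ≅
      Scheme.Modules.pullback i ⋙ Mod48.tR (O := X.sheaf) ((Scheme.Modules.pullback i).obj N) :=
  let e := ModSite.RMor.ofSchemePull i
  let r : X.Modules ⥤ X.Modules := Mod48.tR (O := X.sheaf) ((ModSite.RMor.ofScheme i).pull.obj N)
  Functor.isoWhiskerLeft (Mod48.tR (O := P.sheaf) N) e.symm ≪≫
    SiteMod.pullTensIso (ModSite.RMor.ofScheme i) N ≪≫
    Functor.isoWhiskerRight e r ≪≫
    Functor.isoWhiskerLeft (Scheme.Modules.pullback i)
      ((ModSite.tensorBi X.sheaf).flip.mapIso (e.app N))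

/-- Inverse image of tensoring with a direct image. -/
def tensPullIso (E : X.Modules) :
    Mod48.tR (O := P.sheaf) ((p).obj E) ⋙ Scheme.Modules.pullback i ≅
      Scheme.Modules.pullback i ⋙ Mod48.tR (O := X.sheaf) E :=
  pullTensIso i ((p).obj E) ≪≫ Functor.isoWhiskerLeft (Scheme.Modules.pullback i)
    ((ModSite.tensorBi X.sheaf).flip.mapIso ((counitIso i).app E))

/-- Direct image commutes with the internal hom. -/
def pushHomIso (F : X.Modules) :
    homFunctor F ⋙ p ≅ p ⋙ homFunctor ((p).obj F) :=
  Adjunction.rightAdjointUniq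
    ((Scheme.Modules.pullbackPushforwardAdjunction i).comp (homModAdjR F))
    (((homModAdjR ((p).obj F)).comp (Scheme.Modules.pullbackPushforwardAdjunction i)).ofNatIsoLeft
      (tensPullIso i F))

theorem isKilled_homMod (E : X.Modules) (G : P.Modules) :
    Descend.IsKilled i (homMod ((p).obj E) G) := fun U a ha φ => HomOn.ext' fun W hW s => by
  change resO P hW a • (ofSec φ).app W hW s = 0
  rw [← map_smul]
  refine (congrArg _ ?_).trans (map_zero _)
  refine (QCqs72.pushforward_smul E i _ s).trans ?_
  rw [QCqs72.app_resO, show i.app U.1 a = 0 from i.ideal_ker_le U ha]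
  exact (congrArg (· • (show Γ(E, i ⁻¹ᵁ W) from s)) (map_zero _)).trans (zero_smul _ _)

theorem isKilled_tens (E : X.Modules) (A : P.Modules) :
    Descend.IsKilled i ((Mod48.tR (O := P.sheaf) ((p).obj E)).obj A) := fun U a ha z => by
  let EP := (p).obj E
  let Q : Mod48.PreM P.sheaf := MonoidalCategoryStruct.tensorObj (Mod48.pre (O := P.sheaf) A) (Mod48.pre EP)
  obtain ⟨T, hT, hp⟩ := Mod48.locally_preimage
    ((Mod48.isIso_shf_map_iff_isLocalIso (Mod48.shfU Q)).1 inferInstance) (op U.1) z
  refine section_ext _ _ _ fun q hq => ?_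
  obtain ⟨W, g, hg, hqW⟩ := hT q hq
  obtain ⟨t, ht⟩ := hp g hg
  refine ⟨W, g.le, hqW, ?_⟩
  rw [res_zero, res_smul]
  refine (congrArg (resO P g.le a • ·) ht.symm).trans ?_
  refine ((map_smul ((Mod48.shfU Q).app (op W)).hom (resO P g.le a) t).symm).trans ?_
  refine (congrArg ((Mod48.shfU Q).app (op W)).hom ?_).trans (map_zero _)
  clear ht
  induction t using TensorProduct.induction_on with
  | zero => exact smul_zero _
  | tmul x y =>
    refine (Mod48.tp_smul_right (M := Mod48.pre (O := P.sheaf) A) (N := Mod48.pre EP) (resO P g.le a) x y).symm.trans ?_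
    have h0 : (resO P g.le a) • (show Γ(EP, W) from y) = 0 := by
      refine (QCqs72.pushforward_smul E i _ _).trans ?_
      rw [QCqs72.app_resO, show i.app U.1 a = 0 from i.ideal_ker_le U ha]
      exact (congrArg (· • (show Γ(E, i ⁻¹ᵁ W) from y)) (map_zero _)).trans (zero_smul _ _)
    exact (congrArg (Mod48.tp (M := Mod48.pre (O := P.sheaf) A) (N := Mod48.pre EP) x) h0).trans
      (TensorProduct.tmul_zero _ _)
  | add x y hx hy => exact (smul_add _ _ _).trans ((congrArg₂ (· + ·) hx hy).trans (add_zero _))

/-- A killed module is the direct image of its inverse image. -/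
def pullPushIso {K : P.Modules} (hK : Descend.IsKilled i K) :
    (p).obj ((Scheme.Modules.pullback i).obj K) ≅ K :=
  (p).mapIso ((Scheme.Modules.pullback i).mapIso (Descend.descIso hK).symm ≪≫
    (counitIso i).app _) ≪≫ Descend.descIso hK

/-- Direct image of a tensor product. -/
def pushTensIso (E F : X.Modules) :
    (Mod48.tR (O := P.sheaf) ((p).obj E)).obj ((p).obj F) ≅ (p).obj (CohB1.tensorMod E F) :=
  (pullPushIso i (isKilled_tens i E _)).symm ≪≫
    (p).mapIso ((tensPullIso i E).app _ ≪≫
      (Mod48.tR (O := X.sheaf) E).mapIso ((counitIso i).app F) ≪≫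
      ((Mod48.tensSymm (O := X.sheaf) E).app F).symm)

/-- The internal hom out of a direct image, as a functor to the closed subscheme. -/
def W (E : X.Modules) : P.Modules ⥤ X.Modules := homFunctor ((p).obj E) ⋙ Scheme.Modules.pullback i

/-- Its direct image is the internal hom. -/
def wPushIso (E : X.Modules) : W i E ⋙ p ≅ homFunctor ((p).obj E) := by
  refine (@asIso _ _ _ _ (Functor.whiskerLeft (homFunctor ((p).obj E))
    (Scheme.Modules.pullbackPushforwardAdjunction i).unit) ?_).symm
  have : ∀ G, IsIso ((Functor.whiskerLeft (homFunctor ((p).obj E))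
      (Scheme.Modules.pullbackPushforwardAdjunction i).unit).app G) := fun G => by
    have := full_pushforward i
    have := QC70.faithful_pushforward i
    exact (Scheme.Modules.pullbackPushforwardAdjunction i).isIso_unit_app_of_iso
      (Descend.descIso (isKilled_homMod i E G)).symm
  exact NatIso.isIso_of_isIso_app _

instance additive_W (E : X.Modules) : (W i E).Additive := by
  have := (homModAdj ((p).obj E)).right_adjoint_additive
  have := (Scheme.Modules.pullbackPushforwardAdjunction i).left_adjoint_additive
  exact inferInstanceAs (homFunctor ((p).obj E) ⋙ Scheme.Modules.pullback i).Additive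

theorem injective_W {E : X.Modules} (hE : FlatMod.IsFinLocFree E) (Q : P.Modules) [Injective Q] :
    Injective ((W i E).obj Q) :=
  QC70.injective_of_pushforward_iso_sheafHom i hE Q ((wPushIso i E).app Q)

end Groth.Agent.GSS45.ClosedHom
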