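import Groth.Agent.GSS45.SiteSS
import Groth.Agent.QC70.SheafHomFlasque
import Groth.Agent.TopCoh49.Rpush
import Groth.Prelude.Def_Coh
import Groth.Prelude.Def_CohTop

/-!
Direct images of modules on schemes: underlying sheaves, flasque sheaves, a composite spectral sequence.
-/

set_option autoImplicit false
set_option backward.isDefEq.respectTransparency false

universe u

open CategoryTheory CategoryTheory.Limits Opposite AlgebraicGeometry

namespace Groth.Agent.GSS45

section site

variable {C : Type u} [SmallCategory C] {J : GrothendieckTopology C} {O : Sheaf J CommRingCat.{u}}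

/-- Restrictions of the internal hom into an injective along monomorphisms are surjective. -/
theorem restriction_surjective_sheafHom (F G : ModSite.Mod O) [ModSite.HasSheafHom F] [Injective G]
    {U U' : C} (a : U' ⟶ U) [Mono a] :
    Function.Surjective (((ModSite.sheafHom F).obj G).val.map a.op) := by
  let adjL : (ModSite.tensorBi O).obj F ⊣ ModSite.sheafHom F :=
    (ModSite.sheafHomAdj F).ofNatIsoLeft (Mod48.tRIso F ≪≫ (Mod48.tensSymm F).symm ≪≫ (Mod48.tLIso F).symm)
  have : ((ModSite.tensorBi O).obj F).IsLeftAdjoint := adjL.isLeftAdjoint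
  let e : ((ModSite.tensorBi O).obj F).rightAdjoint.obj G ≅ (ModSite.sheafHom F).obj G :=
    (Adjunction.rightAdjointUniq (Adjunction.ofIsLeftAdjoint _) adjL).app G
  intro x
  obtain ⟨y, hy⟩ := QC70.restriction_surjective_sheafHom F G a (e.inv.val.app (op U') x)
  refine ⟨e.hom.val.app (op U) y, ?_⟩
  refine (Mod48.app_res e.hom.val a.op y).symm.trans ?_
  refine (congrArg (e.hom.val.app (op U')) hy).trans ?_
  exact LinearMap.congr_fun (congrArg ModuleCat.Hom.hom
    (congrArg (fun ψ : (ModSite.sheafHom F).obj G ⟶ (ModSite.sheafHom F).obj G => ψ.val.app (op U'))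
      e.inv_hom_id)) x

end site

variable {X Y Z : Scheme.{u}}

theorem isFlasque_toAb_of_surjective (M : X.Modules)
    (h : ∀ {U U' : X.Opens} (i : U' ⟶ U), Function.Surjective (M.val.map i.op)) :
    TopCat.Sheaf.IsFlasque (show TopCat.Sheaf AddCommGrpCat.{u} X.carrier from Coh.toAb M) where
  epi i := (AddCommGrpCat.epi_iff_surjective _).2 (h i.unop)

/-- The underlying abelian sheaf of a higher direct image. -/
theorem nonempty_toAb_Rpush (f : X ⟶ Y) [HasInjectiveResolutions X.Modules] (M : X.Modules) (n : ℕ) :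
    Nonempty (Coh.toAb ((Coh.Rpush f n).obj M) ≅ (Coh.RpushAb f n).obj (Coh.toAb M)) := by
  let tX : X.Modules ⥤ Sheaf (Opens.grothendieckTopology X) AddCommGrpCat.{u} :=
    SheafOfModules.toSheaf X.ringCatSheaf
  let tY : Y.Modules ⥤ Sheaf (Opens.grothendieckTopology Y) AddCommGrpCat.{u} :=
    SheafOfModules.toSheaf Y.ringCatSheaf
  have : PreservesFiniteColimits tX :=
    have := Mod48.toSheaf_preservesColimits (O := X.sheaf)
    PreservesColimitsOfSize.preservesFiniteColimits tX
  have : PreservesFiniteColimits tY :=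
    have := Mod48.toSheaf_preservesColimits (O := Y.sheaf)
    PreservesColimitsOfSize.preservesFiniteColimits tY
  have : PreservesFiniteLimits tX := inferInstanceAs (PreservesFiniteLimits (SheafOfModules.toSheaf X.ringCatSheaf))
  have : PreservesFiniteLimits tY := inferInstanceAs (PreservesFiniteLimits (SheafOfModules.toSheaf Y.ringCatSheaf))
  have : PreservesFiniteLimits (Coh.pushAb f) :=
    have : (Coh.pushAb f).IsRightAdjoint :=
      ((TopCat.Sheaf.pullbackPushforwardAdjunction AddCommGrpCat.{u} f.base)).isRightAdjoint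
    inferInstance
  let e : Scheme.Modules.pushforward f ⋙ tY ≅ tX ⋙ Coh.pushAb f :=
    NatIso.ofComponents (fun _ => Iso.refl _) (fun φ => (Category.comp_id _).trans (Category.id_comp _).symm)
  have : tX.Additive := inferInstanceAs (SheafOfModules.toSheaf X.ringCatSheaf).Additive
  have : tY.Additive := inferInstanceAs (SheafOfModules.toSheaf Y.ringCatSheaf).Additive
  have : EnoughInjectives X.Modules := enoughInjectives_of_resolutions
  obtain ⟨e'⟩ := nonempty_rightDerived_comp tX (Coh.pushAb f) (fun I hI q hq => by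
    obtain ⟨k, rfl⟩ := Nat.exists_eq_succ_of_ne_zero hq.ne'
    have := isFlasque_toAb_of_surjective I (fun i => SiteMod.restriction_surjective X.ringCatSheaf I i)
    exact TopCoh49.isZero_Rpush_of_isFlasque f.base (Coh.toAb I) k) M n
  exact ⟨((SiteCoh.rightDerivedCompExactIso (Scheme.Modules.pushforward f) tY n).symm ≪≫
    rightDerivedIsoOfIso e n).app M ≪≫ e'⟩

/-- Flasque modules are acyclic for direct images. -/
theorem isZero_Rpush_of_isFlasque (f : X ⟶ Y) [HasInjectiveResolutions X.Modules] (M : X.Modules)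
    (h : TopCat.Sheaf.IsFlasque (show TopCat.Sheaf AddCommGrpCat.{u} X.carrier from Coh.toAb M)) (k : ℕ) :
    IsZero ((Coh.Rpush f (k + 1)).obj M) := by
  obtain ⟨e⟩ := nonempty_toAb_Rpush f M (k + 1)
  have hz : IsZero ((SheafOfModules.toSheaf Y.ringCatSheaf).obj ((Coh.Rpush f (k + 1)).obj M)) :=
    IsZero.of_iso (@TopCoh49.isZero_Rpush_of_isFlasque _ _ f.base (Coh.toAb M) h k) e
  rw [IsZero.iff_id_eq_zero] at hz ⊢
  apply (SheafOfModules.toSheaf Y.ringCatSheaf).map_injective
  rwa [CategoryTheory.Functor.map_id, Functor.map_zero]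

/-- `R^a g_* Ext^b_f ⇒ Ext^{a+b}_h`. -/
theorem exists_ss_Rpush_sheafHom (f : X ⟶ Y) (g : Y ⟶ Z) (F G : X.Modules)
    [ModSite.HasSheafHom (O := X.sheaf) F] [HasInjectiveResolutions (ModSite.Mod X.sheaf)]
    [HasInjectiveResolutions Y.Modules]
    [(ModSite.sheafHom (O := X.sheaf) F ⋙ Scheme.Modules.pushforward f).Additive]
    [(ModSite.sheafHom (O := X.sheaf) F ⋙ Scheme.Modules.pushforward (f ≫ g)).Additive]
    {H : ℤ → Z.Modules}
    (eH : ∀ n : ℕ, Nonempty (((ModSite.sheafHom (O := X.sheaf) F ⋙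
      Scheme.Modules.pushforward (f ≫ g)).rightDerived n).obj G ≅ H n))
    (hH : ∀ n : ℤ, n < 0 → IsZero (H n)) {E₂ : ℤ → ℤ → Z.Modules}
    (hE : ∀ p q : ℕ, Nonempty ((Coh.Rpush g p).obj
      (((ModSite.sheafHom (O := X.sheaf) F ⋙ Scheme.Modules.pushforward f).rightDerived q).obj G) ≅ E₂ p q))
    (hE0 : ∀ p q : ℤ, p < 0 ∨ q < 0 → IsZero (E₂ p q)) :
    ∃ (ss : E₂CohomologicalSpectralSequence Z.Modules) (a : SpSeq.Abutment ss H),
      (∀ n, a.IsFinite n) ∧ SpSeq.IsBounded ss ∧
        ∀ p q : ℤ, Nonempty ((ss.page 2 le_rfl).X (p, q) ≅ E₂ p q) := by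
  have : PreservesFiniteLimits (Scheme.Modules.pushforward g) :=
    have : (Scheme.Modules.pushforward g).IsRightAdjoint :=
      (Scheme.Modules.pullbackPushforwardAdjunction g).isRightAdjoint
    inferInstance
  let T : ModSite.Mod X.sheaf ⥤ Y.Modules :=
    ModSite.sheafHom (O := X.sheaf) F ⋙ Scheme.Modules.pushforward f
  let e : T ⋙ Scheme.Modules.pushforward g ≅
      ModSite.sheafHom (O := X.sheaf) F ⋙ Scheme.Modules.pushforward (f ≫ g) :=
    Functor.isoWhiskerLeft (ModSite.sheafHom (O := X.sheaf) F) (Scheme.Modules.pushforwardComp f g)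
  have : (T ⋙ Scheme.Modules.pushforward g).Additive := Functor.additive_of_iso e.symm
  refine exists_spectralSequence_comp T (Scheme.Modules.pushforward g) (fun I hI q hq => ?_) G
    (fun n => ?_) hH hE hE0
  · obtain ⟨k, rfl⟩ := Nat.exists_eq_succ_of_ne_zero hq.ne'
    refine isZero_Rpush_of_isFlasque g (T.obj I) (isFlasque_toAb_of_surjective _ fun {U U'} i => ?_) k
    exact restriction_surjective_sheafHom (O := X.sheaf) F I ((TopologicalSpace.Opens.map f.base).map i)
  · obtain ⟨e'⟩ := eH n
    exact ⟨(rightDerivedIsoOfIso e n).app G ≪≫ e'⟩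

end Groth.Agent.GSS45
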