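import Groth.Agent.GSS45.ClosedHom
import Groth.Agent.ZClos93.Flat
import Groth.Prelude.Def_ClSub2
import Groth.Prelude.Def_Dual3
import Groth.Prelude.Def_Wider

/-!
The right adjoint of direct image along a closed immersion; Ext and tensoring with a locally free module.
-/

set_option autoImplicit false
set_option backward.isDefEq.respectTransparency false

noncomputable section

universe u

open CategoryTheory Limits AlgebraicGeometry TopologicalSpace Opposite
open Groth.Agent.QC70 Groth.Agent.Props58.HomO

namespace Groth.Agent.GSS45.ClosedRight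

open ClosedHom

variable {X P : Scheme.{u}} (i : X ⟶ P) [IsClosedImmersion i]

local notation "p" => Scheme.Modules.pushforward i

theorem hK (F : P.Modules) : Descend.IsKilled i (killed i F).mod := killed_ann i F

/-- The module of sections killed by the ideal, on the closed subscheme. -/
def rightObj (F : P.Modules) : X.Modules := Descend.descMod (hK i F)

/-- The evaluation map. -/
def ev (F : P.Modules) : (p).obj (rightObj i F) ⟶ F :=
  (Descend.descIso (hK i F)).hom ≫ (killed i F).ι

/-- Maps out of a direct image. -/
def rightEquiv (A : X.Modules) (F : P.Modules) : ((p).obj A ⟶ F) ≃ (A ⟶ rightObj i F) where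
  toFun φ :=
    have := full_pushforward i
    (p).preimage ((killed i F).lift φ (push_mem_killed i F A φ) ≫ (Descend.descIso (hK i F)).inv)
  invFun ψ := (p).map ψ ≫ ev i F
  left_inv φ := by
    have := full_pushforward i
    dsimp only
    rw [Functor.map_preimage, ev, Category.assoc, Iso.inv_hom_id_assoc]
    exact (killed i F).lift_ι φ _
  right_inv ψ := by
    have := full_pushforward i
    have := QC70.faithful_pushforward i
    apply (p).map_injective
    dsimp only
    rw [Functor.map_preimage, Iso.comp_inv_eq, ← cancel_mono (killed i F).ι, LocalSubmod.lift_ι, ev,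
      Category.assoc]

lemma rightEquiv_natural {A' A : X.Modules} {F : P.Modules} (f : A' ⟶ A) (g : (p).obj A ⟶ F) :
    rightEquiv i A' F ((p).map f ≫ g) = f ≫ rightEquiv i A F g := by
  apply (rightEquiv i A' F).symm.injective
  rw [Equiv.symm_apply_apply]
  change _ = (p).map (f ≫ rightEquiv i A F g) ≫ ev i F
  rw [Functor.map_comp, Category.assoc]
  exact congrArg ((p).map f ≫ ·) ((rightEquiv i A F).symm_apply_apply g).symm

/-- Direct image has a right adjoint. -/
def rightAdj : p ⊣ Adjunction.rightAdjointOfEquiv (F := p) (rightEquiv i) (fun _ _ _ f g => rightEquiv_natural i f g) :=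
  Adjunction.adjunctionOfEquivRight _ _

theorem hasHomO : Dual3.HasHomO i := (rightAdj i).isLeftAdjoint

/-- The counit identifies the right adjoint with the killed sections. -/
theorem counit_range [Dual3.HasHomO i] (F : P.Modules) (U : P.affineOpens) :
    Function.Injective (((Dual3.homOAdj i).counit.app F).app U.1) ∧
      Set.range (((Dual3.homOAdj i).counit.app F).app U.1) = ((killed i F).obj U.1 : Set Γ(F, U.1)) := by
  let e := (Adjunction.rightAdjointUniq (Dual3.homOAdj i) (rightAdj i)).app F
  have hc : (Dual3.homOAdj i).counit.app F = (p).map e.hom ≫ ev i F :=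
    ((Adjunction.rightAdjointUniq_hom_app_counit (Dual3.homOAdj i) (rightAdj i) F).symm.trans
      (congrArg ((p).map e.hom ≫ ·) (by
        simp only [rightAdj, Adjunction.adjunctionOfEquivRight, Adjunction.mkOfHomEquiv_counit_app]
        exact (congrArg (· ≫ ev i F) ((p).map_id _)).trans (Category.id_comp _))))
  let e' : (p).obj ((Dual3.homO i).obj F) ≅ (killed i F).mod :=
    (p).mapIso e ≪≫ Descend.descIso (hK i F)
  have hc' : ∀ s, ((Dual3.homOAdj i).counit.app F).app U.1 s = (killed i F).ι.app U.1 (e'.hom.app U.1 s) := by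
    intro s
    rw [hc]
    rfl
  have hbij : Function.Bijective (e'.hom.app U.1) := ConcreteCategory.bijective_of_isIso (e'.hom.app U.1)
  refine ⟨fun s t h => hbij.1 ?_, ?_⟩
  · rw [hc', hc'] at h
    exact Subtype.ext h
  · rw [← (killed i F).range_ι_app]
    ext x
    constructor
    · rintro ⟨s, rfl⟩
      exact ⟨_, (hc' s).symm⟩
    · rintro ⟨t, rfl⟩
      obtain ⟨s, rfl⟩ := hbij.2 t
      exact ⟨s, hc' s⟩

theorem killed_obj_eq (F : P.Modules) (U : P.affineOpens) :
    ((killed i F).obj U.1 : Set Γ(F, U.1)) =
      ((LocCoh.torsionBy (i.ker.ideal U) (F.val.obj (op U.1)) : Submodule Γ(P, U.1) (F.val.obj (op U.1))) :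
        Set (F.val.obj (op U.1))) := by
  ext s
  refine ⟨fun h => ?_, fun h => ?_⟩
  · refine (Submodule.mem_torsionBySet_iff _ _).2 fun a => ?_
    have := h U le_rfl a.1 a.2
    rwa [res_self] at this
  · exact mem_killed_of_affine i F U s fun a ha => (Submodule.mem_torsionBySet_iff _ _).1 h ⟨a, ha⟩

/-- Coherent modules killed by the ideal are direct images of coherent modules. -/
theorem exists_coh_of_killed [IsLocallyNoetherian P] (F : P.Modules) (hF : Coh.IsCoh F)
    (hk : ClSub.KilledByIdeal i.ker F) :
    ∃ G : X.Modules, Coh.IsCoh G ∧ Nonempty ((p).obj G ≅ F) :=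
  ⟨_, ZClos93.isCoh_pullback i F hF, ⟨pullPushIso i hk⟩⟩

/-- `Ext^n(F ⊗ E, G) ≅ Ext^n(F, G ⊗ E^∨)`. -/
theorem nonempty_ext_tensor (E F G : X.Modules) [HasExt.{u} X.Modules] (hE : FlatMod.IsFinLocFree E) (n : ℕ) :
    Nonempty (Abelian.Ext.{u} (CohB1.tensorMod F E) G n ≃+ Abelian.Ext.{u} F (homMod E G) n) := by
  have : (homFunctor E).Additive := (homModAdj E).right_adjoint_additive
  have : (homFunctor E).IsRightAdjoint := (homModAdjR E).isRightAdjoint
  have : PreservesFiniteLimits (homFunctor E) := inferInstance
  have : PreservesFiniteColimits (homFunctor E) :=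
    (Functor.preservesFiniteColimits_iff_forall_exact_map_and_epi _).mpr fun S hS =>
      ⟨(((Functor.preservesFiniteLimits_iff_forall_exact_map_and_mono _).mp inferInstance) S hS).1,
        @epi_homMap X E hE _ _ S.g hS.epi_g⟩
  let adj := homModAdjR E
  let θ : F ⟶ (homFunctor E).obj (CohB1.tensorMod F E) := adj.unit.app F
  have hbij : ∀ M : X.Modules, Function.Bijective
      (fun g : CohB1.tensorMod F E ⟶ M => θ ≫ (homFunctor E).map g) := fun M => by
    have h : (fun g : CohB1.tensorMod F E ⟶ M => θ ≫ (homFunctor E).map g) = adj.homEquiv F M :=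
      funext fun g => (adj.homEquiv_unit F M g).symm
    rw [h]
    exact (adj.homEquiv F M).bijective
  exact ⟨AddEquiv.ofBijective (SiteCoh.extTransfer (homFunctor E) θ G n)
    (SiteCoh.extTransfer_bijective _ _ hbij (fun I hI k =>
      have : Injective ((homFunctor E).obj I) := @injective_homMod X E hE I hI
      Abelian.Ext.subsingleton_of_injective _ _ k) n G)⟩

end Groth.Agent.GSS45.ClosedRight
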