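import Groth.Agent.GSS45.RPlus
import Groth.Agent.CohDer42.AcCrit

/-!
The derived functor on objects concentrated in one degree and on complexes of acyclic objects.
-/

set_option autoImplicit false
set_option backward.isDefEq.respectTransparency false

universe w w' v v' u u'

open CategoryTheory Category Limits Pretriangulated

namespace Groth.Agent.GSS45

variable {C : Type u} [Category.{v} C] [Abelian C] [HasDerivedCategory.{w} C]

/-- The image of a complex in the derived category. -/
noncomputable def toD (K : CochainComplex.Plus C) :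
    DerivedCategory.Plus.ι.obj (DerivedCategory.Plus.Q.obj K) ≅ DerivedCategory.Q.obj K.obj :=
  (DerivedCategory.quotientCompQhIso C).app K.obj

/-- A quasi-isomorphism gives an isomorphism in the bounded below derived category. -/
noncomputable def qIso {K L : CochainComplex.Plus C} (f : K ⟶ L) [QuasiIso f.hom] :
    DerivedCategory.Plus.Q.obj K ≅ DerivedCategory.Plus.Q.obj L :=
  DerivedCategory.Plus.ι.preimageIso (toD K ≪≫ asIso (DerivedCategory.Q.map f.hom) ≪≫ (toD L).symm)

/-- The cohomology of a complex in the derived category. -/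
noncomputable def homologyQIso (K : CochainComplex.Plus C) (n : ℤ) :
    (DerivedCategory.Plus.homologyFunctor C n).obj (DerivedCategory.Plus.Q.obj K) ≅ K.obj.homology n :=
  (DerivedCategory.homologyFunctor C n).mapIso (toD K) ≪≫
    (DerivedCategory.homologyFunctorFactors C n).app K.obj

/-- An object of the heart, shifted. -/
lemma nonempty_iso_shift_single (X : DerivedCategory.Plus C) (q : ℤ) [X.IsGE q] [X.IsLE q] :
    ∃ (S : CochainComplex.Plus C) (A : C),
      S.obj = (HomologicalComplex.single C (ComplexShape.up ℤ) 0).obj A ∧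
      Nonempty (A ≅ (DerivedCategory.Plus.homologyFunctor C q).obj X) ∧
      Nonempty (X ≅ (DerivedCategory.Plus.Q.obj S)⟦-q⟧) := by
  obtain ⟨A, ⟨e⟩⟩ :=
    DerivedCategory.exists_iso_singleFunctor_obj_of_isGE_of_isLE (DerivedCategory.Plus.ι.obj X) q
  let S : CochainComplex.Plus C :=
    ⟨(HomologicalComplex.single C (ComplexShape.up ℤ) 0).obj A, 0,
      (inferInstance : CochainComplex.IsStrictlyGE ((HomologicalComplex.single C (ComplexShape.up ℤ) 0).obj A) 0)⟩
  refine ⟨S, A, rfl, ⟨Iso.symm ((DerivedCategory.homologyFunctor C q).mapIso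
      (e ≪≫ (DerivedCategory.singleFunctorIsoCompQ C q).app A) ≪≫
      (DerivedCategory.homologyFunctorFactors C q).app _ ≪≫
      HomologicalComplex.singleObjHomologySelfIso (ComplexShape.up ℤ) q A)⟩, ⟨?_⟩⟩
  refine DerivedCategory.Plus.ι.preimageIso
    (e ≪≫ (((DerivedCategory.singleFunctors C).shiftIso (-q) q 0 (by lia)).app A).symm ≪≫ ?_)
  refine (shiftFunctor (DerivedCategory C) (-q)).mapIso
    ((DerivedCategory.singleFunctorIsoCompQ C 0).app A ≪≫ (toD S).symm) ≪≫ ?_
  exact ((DerivedCategory.Plus.ι (C := C)).commShiftIso (-q)).symm.app _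

variable [EnoughInjectives C] {D : Type u'} [Category.{v'} D] [Abelian D] (G : C ⥤ D) [G.Additive]

/-- The derived functor of an object in degree zero. -/
lemma nonempty_hΦ_single (S : CochainComplex.Plus C) (A : C)
    (hS : S.obj = (HomologicalComplex.single C (ComplexShape.up ℤ) 0).obj A) (p : ℕ) :
    Nonempty ((HΦ G p).obj (DerivedCategory.Plus.Q.obj S) ≅ (G.rightDerived p).obj A) := by
  obtain ⟨S, hS'⟩ := S
  obtain rfl := hS
  have R := InjectiveResolution.of A
  let J : CochainComplex.Plus C := ⟨R.cochainComplex, 0, inferInstance⟩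
  let f : (⟨_, hS'⟩ : CochainComplex.Plus C) ⟶ J := ObjectProperty.homMk R.ι'
  have : QuasiIso f.hom := inferInstanceAs (QuasiIso R.ι')
  have : ∀ n, Injective (J.obj.X n) := fun n => inferInstanceAs (Injective (R.cochainComplex.X n))
  obtain ⟨e⟩ := nonempty_hΦIso G J (p : ℤ)
  exact ⟨(HΦ G p).mapIso (qIso f) ≪≫ e ≪≫
    HomologicalComplex.homologyMapIso (CohDer42.mapExtendIso G R.cocomplex).symm (p : ℤ) ≪≫
    HomologicalComplex.extendHomologyIso _ ComplexShape.embeddingUpNat (by simp) ≪≫
    (R.isoRightDerivedObj G p).symm⟩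

variable [PreservesFiniteLimits G]

/-- An object without higher derived functors is acyclic. -/
lemma isAc_of_isZero [HasDerivedCategory.{w'} D] {X : C}
    (h : ∀ q : ℕ, 0 < q → IsZero ((G.rightDerived q).obj X)) : RFPlus43.IsAc G X :=
  (CohDer42.isAc_iff G X).2 ⟨inferInstance, h⟩

/-- Complexes of acyclic objects compute the derived functor. -/
lemma nonempty_hΦ_acyclic (K : CochainComplex.Plus C)
    (hK : ∀ (n : ℤ) (q : ℕ), 0 < q → IsZero ((G.rightDerived q).obj (K.obj.X n))) (n : ℤ) :
    Nonempty ((HΦ G n).obj (DerivedCategory.Plus.Q.obj K) ≅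
      ((G.mapHomologicalComplex (.up ℤ)).obj K.obj).homology n) := by
  let _ : HasDerivedCategory D := HasDerivedCategory.standard D
  obtain ⟨a, ha⟩ := K.property
  obtain ⟨I, hI, s, hs⟩ := CochainComplex.Plus.exists_quasiIso_injective K a
  let J := (InjectiveObject.ι C).mapCochainComplexPlus.obj I
  have hsQ : QuasiIso s.hom := hs
  have hJge : J.obj.IsStrictlyGE a :=
    (CochainComplex.isStrictlyGE_mapHomologicalComplex_obj_iff _ _ _).2 hI
  let M := CochainComplex.mappingCone s.hom
  have : M.IsStrictlyGE (a - 1) := CochainComplex.isStrictlyGE_mappingCone s.hom a a (a - 1)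
  have hT := HomotopyCategory.mappingCone_triangleh_distinguished s.hom
  have hMac : M.Acyclic := by
    have h := ((HomotopyCategory.subcategoryAcyclic C).trW_iff_of_distinguished _ hT).1 (by
      rw [← HomotopyCategory.quasiIso_eq_trW_subcategoryAcyclic]
      exact (HomotopyCategory.quotient_map_mem_quasiIso_iff _).2
        ((HomologicalComplex.mem_quasiIso_iff _).2 hsQ))
    exact (HomotopyCategory.quotient_obj_mem_subcategoryAcyclic_iff_acyclic _).1 h
  have hinj : ∀ n, Injective (J.obj.X n) := fun n =>
    inferInstanceAs (Injective ((InjectiveObject.ι C).obj (I.obj.X n)))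
  have hMX : ∀ n, RFPlus43.IsAc G (M.X n) := fun n =>
    RFPlus43.IsAc.of_iso (HomologicalComplex.homotopyCofiber.XIsoBiprod s.hom n (n + 1) rfl).symm
      ((isAc_of_isZero G (hK _)).biprod (RFPlus43.isAc_of_injective G _))
  have hGM := RFPlus43.acyclic_map G M (a - 1) hMac hMX
  have hq : QuasiIso ((G.mapHomologicalComplex (.up ℤ)).map s.hom) := by
    rw [← HomologicalComplex.mem_quasiIso_iff, ← HomotopyCategory.quotient_map_mem_quasiIso_iff,
      HomotopyCategory.quasiIso_eq_trW_subcategoryAcyclic]
    exact ((HomotopyCategory.subcategoryAcyclic D).trW_iff_of_distinguished _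
      ((G.mapHomotopyCategory (ComplexShape.up ℤ)).map_distinguished _ hT)).2
        ((HomotopyCategory.quotient_obj_mem_subcategoryAcyclic_iff_acyclic _).2 hGM)
  obtain ⟨e⟩ := nonempty_hΦIso G J n
  exact ⟨(HΦ G n).mapIso (qIso s) ≪≫ e ≪≫
    (asIso (HomologicalComplex.homologyMap ((G.mapHomologicalComplex (.up ℤ)).map s.hom) n)).symm⟩

end Groth.Agent.GSS45
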