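import Groth.Agent.GSS45.SiteSS
import Groth.Agent.QC70.HomRestrict
import Groth.Prelude.Def_Coh

/-!
Relative Ext sheaves and restriction to opens of the base.
-/

set_option autoImplicit false
set_option backward.isDefEq.respectTransparency false

noncomputable section

universe u

open CategoryTheory Limits AlgebraicGeometry TopologicalSpace Opposite
open Groth.Agent.QC70

namespace Groth.Agent.GSS45.RelExt

variable {X Y : Scheme.{u}} (f : X ⟶ Y) (W : Y.Opens)

lemma bijective_res (M : X.Modules) {U V : X.Opens} (e : V = U) : Function.Bijective (res M e.le) := by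
  subst e
  exact ⟨fun s t h => (res_self s).symm.trans (h.trans (res_self t)), fun t => ⟨t, res_self t⟩⟩

/-- Direct image commutes with restriction to an open of the base, on objects. -/
def pushRestrictHom (M : X.Modules) :
    ((Scheme.Modules.pushforward f).obj M).restrict W.ι ⟶
      (Scheme.Modules.pushforward (f ∣_ W)).obj (M.restrict (f ⁻¹ᵁ W).ι) :=
  HomOn.toHom
    { app := fun T _ =>
        { toFun := fun s =>
            (show Γ(M, (f ⁻¹ᵁ W).ι ''ᵁ ((f ∣_ W) ⁻¹ᵁ T)) from
              res M (image_morphismRestrict_preimage f W T).le (show Γ(M, f ⁻¹ᵁ (W.ι ''ᵁ T)) from s))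
          map_add' := fun s t => res_add _ _ _
          map_smul' := fun r s => by
            let s' : Γ(M, f ⁻¹ᵁ (W.ι ''ᵁ T)) := s
            change res M (image_morphismRestrict_preimage f W T).le (f.app (W.ι ''ᵁ T) ((W.ι.appIso T).inv r) • s') =
              ((f ⁻¹ᵁ W).ι.appIso _).inv ((f ∣_ W).app T r) • res M (image_morphismRestrict_preimage f W T).le s'
            rw [res_smul]
            congr 1
            simp only [Scheme.Opens.ι_appIso, morphismRestrict_app]
            rfl }
      app_res := fun {T T'} _ h s => by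
        let s' : Γ(M, f ⁻¹ᵁ (W.ι ''ᵁ T)) := s
        change res M (image_morphismRestrict_preimage f W T').le (res M (f.preimage_mono (W.ι.image_mono h)) s') =
          res M ((f ⁻¹ᵁ W).ι.image_mono ((f ∣_ W).preimage_mono h)) (res M (image_morphismRestrict_preimage f W T).le s')
        rw [res_res, res_res] }

instance isIso_pushRestrictHom (M : X.Modules) : IsIso (pushRestrictHom f W M) := by
  rw [Scheme.Modules.Hom.isIso_iff_isIso_app]
  intro T
  exact (ConcreteCategory.isIso_iff_bijective _).2 (bijective_res M (image_morphismRestrict_preimage f W T))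

/-- Direct image commutes with restriction to an open of the base. -/
def pushRestrictIso :
    Scheme.Modules.pushforward f ⋙ Scheme.Modules.restrictFunctor W.ι ≅
      Scheme.Modules.restrictFunctor (f ⁻¹ᵁ W).ι ⋙ Scheme.Modules.pushforward (f ∣_ W) :=
  NatIso.ofComponents (fun M => asIso (pushRestrictHom f W M)) fun {M N} φ =>
    Scheme.Modules.hom_ext _ _ fun T => by
      ext s
      exact (app_res φ _ _).symm

/-- Relative Ext sheaves commute with restriction to an open of the base. -/
theorem nonempty_relExt_restrict (F G : X.Modules) (n : ℕ)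
    [ModSite.HasSheafHom (O := X.sheaf) F] [HasInjectiveResolutions (ModSite.Mod X.sheaf)]
    [(ModSite.sheafHom (O := X.sheaf) F ⋙ Scheme.Modules.pushforward f).Additive]
    [ModSite.HasSheafHom (O := (↑(f ⁻¹ᵁ W) : Scheme.{u}).sheaf) (F.restrict (f ⁻¹ᵁ W).ι)]
    [HasInjectiveResolutions (ModSite.Mod (↑(f ⁻¹ᵁ W) : Scheme.{u}).sheaf)]
    [(ModSite.sheafHom (O := (↑(f ⁻¹ᵁ W) : Scheme.{u}).sheaf) (F.restrict (f ⁻¹ᵁ W).ι) ⋙
      Scheme.Modules.pushforward (f ∣_ W)).Additive] :
    Nonempty ((Scheme.Modules.restrictFunctor W.ι).obj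
        (((ModSite.sheafHom (O := X.sheaf) F ⋙ Scheme.Modules.pushforward f).rightDerived n).obj G) ≅
      ((ModSite.sheafHom (O := (↑(f ⁻¹ᵁ W) : Scheme.{u}).sheaf) (F.restrict (f ⁻¹ᵁ W).ι) ⋙
        Scheme.Modules.pushforward (f ∣_ W)).rightDerived n).obj (G.restrict (f ⁻¹ᵁ W).ι)) := by
  have : HasInjectiveResolutions X.Modules := ‹HasInjectiveResolutions (ModSite.Mod X.sheaf)›
  have : HasInjectiveResolutions (↑(f ⁻¹ᵁ W) : Scheme.{u}).Modules :=
    ‹HasInjectiveResolutions (ModSite.Mod (↑(f ⁻¹ᵁ W) : Scheme.{u}).sheaf)›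
  have : EnoughInjectives X.Modules := enoughInjectives_of_resolutions
  let j := (f ⁻¹ᵁ W).ι
  let R := Scheme.Modules.restrictFunctor j
  let RY := Scheme.Modules.restrictFunctor W.ι
  let T : X.Modules ⥤ Y.Modules := ModSite.sheafHom (O := X.sheaf) F ⋙ Scheme.Modules.pushforward f
  let T' : (↑(f ⁻¹ᵁ W) : Scheme.{u}).Modules ⥤ (↑W : Scheme.{u}).Modules :=
    ModSite.sheafHom (O := (↑(f ⁻¹ᵁ W) : Scheme.{u}).sheaf) (F.restrict j) ⋙ Scheme.Modules.pushforward (f ∣_ W)
  let e : T ⋙ RY ≅ R ⋙ T' :=
    Functor.isoWhiskerLeft (ModSite.sheafHom (O := X.sheaf) F) (pushRestrictIso f W) ≪≫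
      Functor.isoWhiskerRight (Functor.isoWhiskerRight (sheafHomIso' F) R ≪≫ homRestrictIso j F ≪≫
        Functor.isoWhiskerLeft R (sheafHomIso' (F.restrict j)).symm) (Scheme.Modules.pushforward (f ∣_ W))
  obtain ⟨e'⟩ := nonempty_rightDerived_comp_iso R T' (fun I hI => @injective_restrict _ _ j _ I hI) G
    (fun k => isZero_rightDerived_of_preservesHomology R G k) n
  exact ⟨((SiteCoh.rightDerivedCompExactIso T RY n).app G).symm ≪≫ (rightDerivedIsoOfIso e n).app G ≪≫ e'.symm⟩

end Groth.Agent.GSS45.RelExt
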