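import Groth.Agent.GSS45.Composite
import Groth.Agent.SiteCoh.ExtRes

/-!
Right derived functors of maps out of an object, and of composites with an exact functor.
-/

set_option autoImplicit false
set_option backward.isDefEq.respectTransparency false
set_option linter.unusedVariables false

universe u v v' v'' u₁ u' u''

open CategoryTheory CategoryTheory.Limits Opposite

namespace Groth.Agent.GSS45

section congr

variable {A : Type u₁} [Category.{v} A] [Abelian A] [HasInjectiveResolutions A] {B : Type u'}
  [Category.{v'} B] [Abelian B]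

/-- Isomorphic functors have isomorphic derived functors. -/
noncomputable def rightDerivedIsoOfIso {F G : A ⥤ B} [F.Additive] [G.Additive] (e : F ≅ G) (n : ℕ) :
    F.rightDerived n ≅ G.rightDerived n where
  hom := NatTrans.rightDerived e.hom n
  inv := NatTrans.rightDerived e.inv n
  hom_inv_id := by rw [← NatTrans.rightDerived_comp, e.hom_inv_id, NatTrans.rightDerived_id]
  inv_hom_id := by rw [← NatTrans.rightDerived_comp, e.inv_hom_id, NatTrans.rightDerived_id]

variable {E : Type u''} [Category.{v''} E] [Abelian E]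

/-- Derived functors of a composite with an exact functor. -/
theorem nonempty_rightDerived_comp [EnoughInjectives B] (G : A ⥤ B) [G.Additive] [PreservesFiniteLimits G]
    [PreservesFiniteColimits G] (H : B ⥤ E) [H.Additive] [PreservesFiniteLimits H]
    (hac : ∀ I : A, Injective I → ∀ q : ℕ, 0 < q → IsZero ((H.rightDerived q).obj (G.obj I)))
    (X : A) (n : ℕ) :
    Nonempty (((G ⋙ H).rightDerived n).obj X ≅ (H.rightDerived n).obj (G.obj X)) := by
  let _ : HasDerivedCategory B := HasDerivedCategory.standard B
  let R := injectiveResolution X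
  have hR : R.cochainComplex.IsStrictlyGE 0 := inferInstance
  let K : CochainComplex.Plus B :=
    ⟨(G.mapHomologicalComplex (ComplexShape.up ℤ)).obj R.cochainComplex, 0, inferInstance⟩
  let S : CochainComplex.Plus B :=
    ⟨(HomologicalComplex.single B (ComplexShape.up ℤ) 0).obj (G.obj X), 0,
      (inferInstance : CochainComplex.IsStrictlyGE ((HomologicalComplex.single B (ComplexShape.up ℤ) 0).obj (G.obj X)) 0)⟩
  let f : S ⟶ K := ObjectProperty.homMk
    ((HomologicalComplex.singleMapHomologicalComplex G (ComplexShape.up ℤ) 0).inv.app X ≫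
      (G.mapHomologicalComplex (ComplexShape.up ℤ)).map R.ι')
  have : G.PreservesHomology := inferInstance
  have hι : QuasiIso ((G.mapHomologicalComplex (ComplexShape.up ℤ)).map R.ι') := inferInstance
  have : QuasiIso f.hom := (quasiIso_iff_comp_left _ _).2 hι
  obtain ⟨e₁⟩ := nonempty_hΦ_acyclic H K (fun m q hq =>
    hac _ (inferInstanceAs (Injective (R.cochainComplex.X m))) q hq) (n : ℤ)
  obtain ⟨e₂⟩ := nonempty_hΦ_single H S (G.obj X) rfl n
  obtain ⟨e₃⟩ := nonempty_homology_rightDerived (G ⋙ H) R n
  exact ⟨e₃.symm ≪≫ HomologicalComplex.homologyMapIso (Iso.refl _) _ ≪≫ e₁.symm ≪≫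
    ((HΦ H n).mapIso (qIso f)).symm ≪≫ e₂⟩

end congr

section hom

variable {A : Type u₁} [Category.{u} A] [Abelian A] [EnoughInjectives A] [HasExt.{u} A]

/-- `Ext^n(X, -)` is the derived functor of `Hom(X, -)`. -/
noncomputable def coyoRightDerivedIso (X : A) (n : ℕ) :
    (preadditiveCoyoneda.obj (op X)).rightDerived n ≅ Abelian.extFunctorObj X n :=
  let Z : Discrete PUnit.{u + 1} ⥤ A := Discrete.functor fun _ => X
  let ev := (evaluation (Discrete PUnit.{u + 1})ᵒᵖ AddCommGrpCat.{u}).obj (op ⟨PUnit.unit⟩)
  have : PreservesFiniteColimits ev := inferInstance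
  have : ev.PreservesHomology := inferInstance
  rightDerivedIsoOfIso (NatIso.ofComponents (fun Y => Iso.refl _)
      (fun {Y Z'} f => (Category.comp_id _).trans (Category.id_comp _).symm) :
        preadditiveCoyoneda.obj (op X) ≅ SiteCoh.homPre Z ⋙ ev) n ≪≫
    SiteCoh.rightDerivedCompExactIso (SiteCoh.homPre Z) ev n ≪≫
    Functor.isoWhiskerRight (SiteCoh.rightDerivedHomPreIso Z n) ev ≪≫
    NatIso.ofComponents (fun Y => Iso.refl _)
      (fun {Y Z'} f => (Category.comp_id _).trans (Category.id_comp _).symm)

/-- Vanishing of the derived functors of `Hom(X, -)`. -/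
theorem isZero_coyo_rightDerived (X Y : A) (n : ℕ) (h : Subsingleton (Abelian.Ext.{u} X Y n)) :
    IsZero (((preadditiveCoyoneda.obj (op X)).rightDerived n).obj Y) :=
  IsZero.of_iso ((IsZero.iff_id_eq_zero _).2 (AddCommGrpCat.hom_ext (AddMonoidHom.ext fun _ => h.elim _ _)))
    ((coyoRightDerivedIso X n).app Y)

end hom

end Groth.Agent.GSS45
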