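import Groth.Agent.GSS45.OfComplex

/-!
The spectral sequence of a composite functor.
-/

set_option autoImplicit false
set_option backward.isDefEq.respectTransparency false

universe v v' v'' u u' u''

open CategoryTheory Category Limits

namespace Groth.Agent.GSS45

variable {C : Type u} [Category.{v} C] [Abelian C] {D : Type u'} [Category.{v'} D] [Abelian D]

theorem enoughInjectives_of_resolutions [HasInjectiveResolutions C] : EnoughInjectives C :=
  ⟨fun X => ⟨{ J := (injectiveResolution X).cocomplex.X 0, f := (injectiveResolution X).ι.f 0 }⟩⟩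

/-- Homology of an extended complex after a functor. -/
lemma nonempty_homology_rightDerived [HasInjectiveResolutions C] (F : C ⥤ D) [F.Additive] {A : C}
    (R : InjectiveResolution A) (n : ℕ) :
    Nonempty (((F.mapHomologicalComplex (ComplexShape.up ℤ)).obj R.cochainComplex).homology (n : ℤ) ≅
      (F.rightDerived n).obj A) :=
  ⟨HomologicalComplex.homologyMapIso (CohDer42.mapExtendIso F R.cocomplex).symm (n : ℤ) ≪≫
    HomologicalComplex.extendHomologyIso _ ComplexShape.embeddingUpNat (by simp) ≪≫
    (R.isoRightDerivedObj F n).symm⟩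

variable {E : Type u''} [Category.{v''} E] [Abelian E]

/-- The composite functor spectral sequence. -/
theorem exists_spectralSequence_comp [HasInjectiveResolutions C] [HasInjectiveResolutions D]
    (T : C ⥤ D) [T.Additive] (S : D ⥤ E) [S.Additive] [PreservesFiniteLimits S]
    (hT : ∀ Q : C, Injective Q → ∀ q : ℕ, 0 < q → IsZero ((S.rightDerived q).obj (T.obj Q))) (A : C)
    {H : ℤ → E} (eH : ∀ n : ℕ, Nonempty (((T ⋙ S).rightDerived n).obj A ≅ H n))
    (hH : ∀ n : ℤ, n < 0 → IsZero (H n)) {E₂ : ℤ → ℤ → E}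
    (hE : ∀ p q : ℕ, Nonempty ((S.rightDerived p).obj ((T.rightDerived q).obj A) ≅ E₂ p q))
    (hE0 : ∀ p q : ℤ, p < 0 ∨ q < 0 → IsZero (E₂ p q)) :
    ∃ (ss : E₂CohomologicalSpectralSequence E) (a : SpSeq.Abutment ss H),
      (∀ n, a.IsFinite n) ∧ SpSeq.IsBounded ss ∧
        ∀ p q : ℤ, Nonempty ((ss.page 2 le_rfl).X (p, q) ≅ E₂ p q) := by
  let _ : HasDerivedCategory D := HasDerivedCategory.standard D
  have := enoughInjectives_of_resolutions (C := D)
  let R := injectiveResolution A
  have hR : R.cochainComplex.IsStrictlyGE 0 := inferInstance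
  let K : CochainComplex.Plus D :=
    ⟨(T.mapHomologicalComplex (ComplexShape.up ℤ)).obj R.cochainComplex, 0, inferInstance⟩
  have : K.obj.IsStrictlyGE 0 := inferInstanceAs
    (CochainComplex.IsStrictlyGE ((T.mapHomologicalComplex (ComplexShape.up ℤ)).obj R.cochainComplex) 0)
  refine exists_spectralSequence_of_complex S K (fun n q hq => ?_) (fun n => ?_) (fun p q => ?_) hE0
  · exact hT _ (inferInstanceAs (Injective (R.cochainComplex.X n))) q hq
  · by_cases hn : 0 ≤ n
    · obtain ⟨m, rfl⟩ := Int.eq_ofNat_of_zero_le hn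
      obtain ⟨e⟩ := nonempty_homology_rightDerived (T ⋙ S) R m
      obtain ⟨e'⟩ := eH m
      exact ⟨HomologicalComplex.homologyMapIso (Iso.refl _) _ ≪≫ e ≪≫ e'⟩
    · refine ⟨IsZero.iso (HomologicalComplex.ExactAt.isZero_homology ?_) (hH n (by lia))⟩
      refine ShortComplex.exact_of_isZero_X₂ _ ?_
      exact S.map_isZero (T.map_isZero (R.cochainComplex.isZero_of_isStrictlyGE 0 n (by lia)))
  · obtain ⟨e⟩ := nonempty_homology_rightDerived T R q
    obtain ⟨e'⟩ := hE p q
    exact ⟨(S.rightDerived p).mapIso e ≪≫ e'⟩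

end Groth.Agent.GSS45
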