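import Groth.Agent.GSS45.ClosedHom
import Groth.Agent.QC70.HomTensor

/-!
Spectral sequences of Ext for a closed immersion.
-/

set_option autoImplicit false
set_option backward.isDefEq.respectTransparency false

noncomputable section

universe u

open CategoryTheory Limits AlgebraicGeometry TopologicalSpace Opposite
open Groth.Agent.QC70
open scoped ZeroObject

namespace Groth.Agent.GSS45.ClosedSS

open ClosedHom

variable {X P : Scheme.{u}} (i : X ⟶ P) [IsClosedImmersion i]

local notation "p" => Scheme.Modules.pushforward i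

theorem nonempty_W_rightDerived (E : X.Modules) (G : P.Modules)
    [ModSite.HasSheafHom (O := P.sheaf) ((p).obj E)] [HasInjectiveResolutions (ModSite.Mod P.sheaf)]
    (M : ℕ → X.Modules)
    (hM : ∀ q : ℕ, Nonempty (((p).obj (M q)) ≅ (ModSite.extSh (O := P.sheaf) ((p).obj E) q).obj G))
    (q : ℕ) :
    have : HasInjectiveResolutions P.Modules := ‹HasInjectiveResolutions (ModSite.Mod P.sheaf)›
    Nonempty (((W i E).rightDerived q).obj G ≅ M q) := by
  have : HasInjectiveResolutions P.Modules := ‹HasInjectiveResolutions (ModSite.Mod P.sheaf)›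
  have : EnoughInjectives P.Modules := enoughInjectives_of_resolutions
  have := preservesFiniteLimits_pushforward i
  have := preservesFiniteColimits_pushforward i
  have := full_pushforward i
  have := QC70.faithful_pushforward i
  let T : P.Modules ⥤ P.Modules := ModSite.sheafHom (O := P.sheaf) ((p).obj E)
  have : T.Additive :=
    have := (homModAdj ((p).obj E)).right_adjoint_additive
    Functor.additive_of_iso (sheafHomIso' ((p).obj E)).symm
  let e : W i E ⋙ p ≅ T := wPushIso i E ≪≫ (sheafHomIso' ((p).obj E)).symm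
  obtain ⟨e'⟩ := hM q
  exact ⟨(p).preimageIso (((SiteCoh.rightDerivedCompExactIso (W i E) (p) q).symm ≪≫
    rightDerivedIsoOfIso e q).app G ≪≫ e'.symm)⟩

/-- Maps into `W`. -/
def wCoyoIso (E F : X.Modules) :
    W i E ⋙ coyo F ≅ coyo ((p).obj (CohB1.tensorMod E F)) :=
  have := full_pushforward i
  have := QC70.faithful_pushforward i
  have : ((ModSite.tensorBi P.sheaf).flip.obj ((p).obj E)).Additive :=
    have := (homModAdj ((p).obj E)).right_adjoint_additive
    (homModAdjR ((p).obj E)).left_adjoint_additive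
  Functor.isoWhiskerLeft (W i E) (coyoTransferIso (p) (𝟙 ((p).obj F))
    (fun N => by
      have h : (fun g : F ⟶ N => 𝟙 ((p).obj F) ≫ (p).map g) = (p).map := funext fun g => Category.id_comp _
      rw [h]
      exact ⟨(p).map_injective, (p).map_surjective⟩)) ≪≫
    Functor.isoWhiskerRight (wPushIso i E) (coyo ((p).obj F)) ≪≫
    adjCoyoIso (homModAdjR ((p).obj E)) ((p).obj F) ≪≫
    preadditiveCoyoneda.mapIso (pushTensIso i E F).op.symm

/-- `Ext^p(F, M_q) ⇒ Ext^{p+q}(ι_*(E ⊗ F), G)`. -/
theorem exists_ss_Ext {E : X.Modules} (F : X.Modules) (hE : FlatMod.IsFinLocFree E) (G : P.Modules)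
    [ModSite.HasSheafHom (O := P.sheaf) ((p).obj E)] [HasInjectiveResolutions (ModSite.Mod P.sheaf)]
    [HasExt.{u} X.Modules] [HasExt.{u} P.Modules] (M : ℕ → X.Modules)
    (hM : ∀ q : ℕ, Nonempty (((p).obj (M q)) ≅ (ModSite.extSh (O := P.sheaf) ((p).obj E) q).obj G)) :
    ∃ (ES : E₂CohomologicalSpectralSequence AddCommGrpCat.{u})
      (a : SpSeq.Abutment ES (fun n : ℤ => if 0 ≤ n then
        AddCommGrpCat.of (Abelian.Ext ((p).obj (CohB1.tensorMod E F)) G n.toNat) else 0)),
      (∀ n, a.IsFinite n) ∧ SpSeq.IsBounded ES ∧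
      ∀ a b : ℤ, Nonempty ((ES.page 2 le_rfl).X (a, b) ≅
        (if 0 ≤ a ∧ 0 ≤ b then AddCommGrpCat.of (Abelian.Ext F (M b.toNat) a.toNat) else 0)) := by
  have : HasInjectiveResolutions P.Modules := ‹HasInjectiveResolutions (ModSite.Mod P.sheaf)›
  have : EnoughInjectives P.Modules := enoughInjectives_of_resolutions
  have : HasInjectiveResolutions X.Modules := inferInstance
  have : EnoughInjectives X.Modules := enoughInjectives_of_resolutions
  refine exists_spectralSequence_comp (W i E) (coyo F) (fun Q hQ q hq => ?_) G (fun n => ?_)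
    (fun n hn => ?_) (fun a b => ?_) (fun a b h => ?_)
  · obtain ⟨k, rfl⟩ := Nat.exists_eq_succ_of_ne_zero hq.ne'
    have := injective_W i hE Q
    exact Functor.isZero_rightDerived_obj_injective_succ _ _ _
  · exact ⟨(rightDerivedIsoOfIso (wCoyoIso i E F) n).app G ≪≫ (coyoRightDerivedIso _ n).app G ≪≫
      eqToIso (by simp; rfl)⟩
  · rw [if_neg (by lia)]; exact isZero_zero _
  · obtain ⟨e⟩ := nonempty_W_rightDerived i E G M hM b
    exact ⟨((coyo F).rightDerived a).mapIso e ≪≫ (coyoRightDerivedIso F a).app _ ≪≫ eqToIso (by simp; rfl)⟩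
  · rw [if_neg (by lia)]; exact isZero_zero _

/-- `ι_* ℰxt^p(F, M_q) ⇒ ℰxt^{p+q}(ι_*(E ⊗ F), G)`. -/
theorem exists_ss_extSh {E : X.Modules} (F : X.Modules) (hE : FlatMod.IsFinLocFree E) (G : P.Modules)
    [ModSite.HasSheafHom (O := P.sheaf) ((p).obj E)]
    [ModSite.HasSheafHom (O := P.sheaf) ((p).obj (CohB1.tensorMod E F))]
    [HasInjectiveResolutions (ModSite.Mod P.sheaf)]
    [ModSite.HasSheafHom (O := X.sheaf) F] [HasInjectiveResolutions (ModSite.Mod X.sheaf)]
    (M : ℕ → X.Modules)
    (hM : ∀ q : ℕ, Nonempty (((p).obj (M q)) ≅ (ModSite.extSh (O := P.sheaf) ((p).obj E) q).obj G)) :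
    ∃ (ES : E₂CohomologicalSpectralSequence P.Modules)
      (a : SpSeq.Abutment ES (fun n : ℤ => if 0 ≤ n then
        (ModSite.extSh (O := P.sheaf) ((p).obj (CohB1.tensorMod E F)) n.toNat).obj G else 0)),
      (∀ n, a.IsFinite n) ∧ SpSeq.IsBounded ES ∧
      ∀ a b : ℤ, Nonempty ((ES.page 2 le_rfl).X (a, b) ≅
        (if 0 ≤ a ∧ 0 ≤ b then ((p).obj ((ModSite.extSh (O := X.sheaf) F a.toNat).obj (M b.toNat))) else 0)) := by
  have : HasInjectiveResolutions P.Modules := ‹HasInjectiveResolutions (ModSite.Mod P.sheaf)›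
  have : HasInjectiveResolutions X.Modules := ‹HasInjectiveResolutions (ModSite.Mod X.sheaf)›
  have : EnoughInjectives P.Modules := enoughInjectives_of_resolutions
  have : EnoughInjectives X.Modules := enoughInjectives_of_resolutions
  have := preservesFiniteLimits_pushforward i
  have := preservesFiniteColimits_pushforward i
  let TF : X.Modules ⥤ X.Modules := ModSite.sheafHom (O := X.sheaf) F
  let TT : P.Modules ⥤ P.Modules := ModSite.sheafHom (O := P.sheaf) ((p).obj (CohB1.tensorMod E F))
  have : TF.Additive :=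
    have := (homModAdj F).right_adjoint_additive
    Functor.additive_of_iso (sheafHomIso' F).symm
  have : TT.Additive :=
    have := (homModAdj ((p).obj (CohB1.tensorMod E F))).right_adjoint_additive
    Functor.additive_of_iso (sheafHomIso' ((p).obj (CohB1.tensorMod E F))).symm
  have : PreservesFiniteLimits TF :=
    have : TF.IsRightAdjoint := (ModSite.sheafHomAdj (O := X.sheaf) F).isRightAdjoint
    inferInstance
  let S : X.Modules ⥤ P.Modules := TF ⋙ p
  have : PreservesFiniteLimits S := comp_preservesFiniteLimits _ _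
  let hom₂ : homFunctor (CohB1.tensorMod ((p).obj F) ((p).obj E)) ≅
      homFunctor ((p).obj (CohB1.tensorMod E F)) :=
    Adjunction.rightAdjointUniq (homModAdjR _) ((homModAdjR _).ofNatIsoLeft
      ((ModSite.tensorBi P.sheaf).flip.mapIso (pushTensIso i E F).symm))
  let e : W i E ⋙ S ≅ TT :=
    Functor.isoWhiskerLeft (W i E) (Functor.isoWhiskerRight (sheafHomIso' F) (p) ≪≫ pushHomIso i F) ≪≫
      Functor.isoWhiskerRight (wPushIso i E) (homFunctor ((p).obj F)) ≪≫
      (homTensorIso ((p).obj F) ((p).obj E)).symm ≪≫ hom₂ ≪≫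
      (sheafHomIso' ((p).obj (CohB1.tensorMod E F))).symm
  refine exists_spectralSequence_comp (W i E) S (fun Q hQ q hq => ?_) G (fun n => ?_)
    (fun n hn => ?_) (fun a b => ?_) (fun a b h => ?_)
  · obtain ⟨k, rfl⟩ := Nat.exists_eq_succ_of_ne_zero hq.ne'
    have := injective_W i hE Q
    exact Functor.isZero_rightDerived_obj_injective_succ _ _ _
  · exact ⟨(rightDerivedIsoOfIso e n).app G ≪≫ eqToIso (by simp; rfl)⟩
  · rw [if_neg (by lia)]; exact isZero_zero _
  · obtain ⟨e'⟩ := nonempty_W_rightDerived i E G M hM b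
    exact ⟨(S.rightDerived a).mapIso e' ≪≫ (SiteCoh.rightDerivedCompExactIso TF (p) a).app _ ≪≫
      eqToIso (by simp; rfl)⟩
  · rw [if_neg (by lia)]; exact isZero_zero _

end Groth.Agent.GSS45.ClosedSS
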