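import Groth.Agent.Props58.HomO
import Groth.Agent.QC70.HomMod

/-!
A module killed by the ideal of a closed subscheme is a direct image from it.
-/

set_option autoImplicit false
set_option backward.isDefEq.respectTransparency.types false

noncomputable section

universe u

open CategoryTheory Limits AlgebraicGeometry TopologicalSpace Opposite
open Groth.Agent.QC70 Groth.Agent.Props58.HomO

namespace Groth.Agent.GSS45.Descend

variable {X P : Scheme.{u}} (i : X ⟶ P) [IsClosedImmersion i] (K : P.Modules)

/-- All sections are killed by the ideal of the closed subscheme. -/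
def IsKilled : Prop :=
  ∀ (U : P.affineOpens) (a : Γ(P, U.1)), a ∈ i.ker.ideal U → ∀ s : Γ(K, U.1), a • s = 0

/-- The open complement of the closed subscheme. -/
def compl : P.Opens := ⟨(Set.range i)ᶜ, i.isClosedEmbedding.isClosed_range.isOpen_compl⟩

theorem isKilled_pushforward (M : X.Modules) : IsKilled i ((Scheme.Modules.pushforward i).obj M) :=
  fun U a ha s => by
    refine (QCqs72.pushforward_smul M i a _).trans ?_
    rw [show i.app U.1 a = 0 from i.ideal_ker_le U ha, zero_smul]
    rfl

variable {i K}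

lemma bigOpen_le {V : X.Opens} {U : P.Opens} (hU : i ⁻¹ᵁ U = V) : bigOpen i V ≤ U ⊔ compl i := by
  intro x hx
  by_cases hr : x ∈ Set.range i
  · obtain ⟨z, rfl⟩ := hr
    refine Or.inl ?_
    have hz : z ∈ i ⁻¹ᵁ bigOpen i V := hx
    rw [preimage_bigOpen, ← hU] at hz
    exact hz
  · exact Or.inr hr

lemma smul_eq_of_app_eq (hK : IsKilled i K) (U : P.affineOpens) {b b' : Γ(P, U.1)}
    (h : i.app U.1 b = i.app U.1 b') (s : Γ(K, U.1)) : b • s = b' • s := by
  rw [← sub_eq_zero, ← sub_smul]
  refine hK U _ ?_ s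
  rw [Scheme.Hom.ker_apply]
  exact (RingHom.mem_ker).2 ((map_sub (i.app U.1).hom b b').trans (sub_eq_zero.2 h))

lemma eq_zero_of_le_compl (hK : IsKilled i K) {W : P.Opens} (hW : W ≤ compl i) (s : Γ(K, W)) : s = 0 := by
  refine section_ext K s 0 fun p hp => ?_
  obtain ⟨_, ⟨U, hU, rfl⟩, hpU, hUW⟩ := P.isBasis_affineOpens.exists_subset_of_mem_open hp W.2
  refine ⟨U, hUW, hpU, ?_⟩
  rw [res_zero]
  have hb : i ⁻¹ᵁ U = ⊥ := eq_bot_iff.2 fun z hz => (hW (hUW hz)) ⟨z, rfl⟩
  have : Subsingleton Γ(X, i ⁻¹ᵁ U) := by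
    rw [hb]
    infer_instance
  rw [← one_smul Γ(P, U) (res K hUW s)]
  exact (smul_eq_of_app_eq hK ⟨U, hU⟩ (b := 1) (b' := 0) (Subsingleton.elim _ _) _).trans (zero_smul _ _)

lemma res_injective (hK : IsKilled i K) {W U : P.Opens} (hUW : U ≤ W) (hW : W ≤ U ⊔ compl i) :
    Function.Injective (res K hUW) := by
  intro s t h
  refine section_ext K s t fun p hp => ?_
  rcases hW hp with hpU | hpc
  · exact ⟨U, hUW, hpU, h⟩
  · refine ⟨W ⊓ compl i, inf_le_left, ⟨hp, hpc⟩, ?_⟩
    exact (eq_zero_of_le_compl hK inf_le_right _).trans (eq_zero_of_le_compl hK inf_le_right _).symm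

/-- Compatible sections glue, the complement of the subscheme being irrelevant. -/
lemma existsUnique_glue (hK : IsKilled i K) {ι : Type u} (U : ι → P.Opens) (sf : ∀ k, Γ(K, U k))
    (hsf : ∀ k l, res K (inf_le_left : U k ⊓ U l ≤ U k) (sf k) = res K inf_le_right (sf l))
    (W : P.Opens) (hU : ∀ k, U k ≤ W) (hW : W ≤ (⨆ k, U k) ⊔ compl i) :
    ∃! s : Γ(K, W), ∀ k, res K (hU k) s = sf k := by
  let V : Option ι → P.Opens := fun o => o.elim (W ⊓ compl i) U
  let tf : ∀ o, Γ(K, V o) := fun o =>
    match o with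
    | none => 0
    | some k => sf k
  have hV : ∀ o, V o ≤ W := fun o => match o with
    | none => inf_le_left
    | some k => hU k
  have hcov : W ≤ iSup V := fun p hp => by
    rcases hW hp with h | h
    · obtain ⟨k, hk⟩ := Opens.mem_iSup.mp h
      exact Opens.mem_iSup.mpr ⟨some k, hk⟩
    · exact Opens.mem_iSup.mpr ⟨none, ⟨hp, h⟩⟩
  obtain ⟨s, hs, huniq⟩ := TopCat.Sheaf.existsUnique_gluing' ⟨K.presheaf, K.isSheaf⟩ V W
    (fun o => homOfLE (hV o)) hcov tf (fun o o' => by
      cases o with
      | none =>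
        exact (eq_zero_of_le_compl hK (inf_le_left.trans inf_le_right) _).trans
          (eq_zero_of_le_compl hK (inf_le_left.trans inf_le_right) _).symm
      | some k => cases o' with
        | none =>
          exact (eq_zero_of_le_compl hK (inf_le_right.trans inf_le_right) _).trans
            (eq_zero_of_le_compl hK (inf_le_right.trans inf_le_right) _).symm
        | some l => exact hsf k l)
  refine ⟨s, fun k => hs (some k), fun t ht => huniq t fun o => ?_⟩
  cases o with
  | none => exact eq_zero_of_le_compl hK inf_le_right _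
  | some k => exact ht k

/-- The defining property of the action of a function on the subscheme. -/
def IsAct (V : X.Opens) (a : Γ(X, V)) (s t : Γ(K, bigOpen i V)) : Prop :=
  ∀ (U : P.affineOpens) (hUV : U.1 ≤ bigOpen i V) (b : Γ(P, U.1)),
    i.app U.1 b = resO X ((i.preimage_mono hUV).trans (preimage_bigOpen i V).le) a →
      res K hUV t = b • res K hUV s

lemma exists_lift (V : X.Opens) (a : Γ(X, V)) (U : P.affineOpens) (hUV : U.1 ≤ bigOpen i V) :
    ∃ b : Γ(P, U.1), i.app U.1 b = resO X ((i.preimage_mono hUV).trans (preimage_bigOpen i V).le) a :=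
  i.app_surjective U.1 U.2 _

lemma existsUnique_act (hK : IsKilled i K) (V : X.Opens) (a : Γ(X, V)) (s : Γ(K, bigOpen i V)) :
    ∃! t, IsAct V a s t := by
  let ι := {U : P.affineOpens // U.1 ≤ bigOpen i V}
  let b : ∀ k : ι, Γ(P, k.1.1) := fun k => (exists_lift V a k.1 k.2).choose
  have hb : ∀ k : ι, i.app k.1.1 (b k) = _ := fun k => (exists_lift V a k.1 k.2).choose_spec
  have hcov : bigOpen i V ≤ ⨆ k : ι, k.1.1 := fun p hp => by
    obtain ⟨_, ⟨U, hU, rfl⟩, hpU, hUW⟩ := P.isBasis_affineOpens.exists_subset_of_mem_open hp (bigOpen i V).2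
    exact Opens.mem_iSup.mpr ⟨⟨⟨U, hU⟩, hUW⟩, hpU⟩
  obtain ⟨t, ht, huniq⟩ := existsUnique_glue hK (fun k : ι => k.1.1) (fun k => b k • res K k.2 s)
    (fun k l => by
      refine section_ext K _ _ fun p hp => ?_
      obtain ⟨_, ⟨W, hW, rfl⟩, hpW, hWle⟩ := P.isBasis_affineOpens.exists_subset_of_mem_open hp
        (k.1.1 ⊓ l.1.1).2
      refine ⟨W, hWle, hpW, ?_⟩
      rw [res_res, res_res, res_smul, res_smul, res_res, res_res]
      refine smul_eq_of_app_eq hK ⟨W, hW⟩ ?_ _
      rw [QCqs72.app_resO, QCqs72.app_resO, hb, hb, resO_resO, resO_resO])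
    (bigOpen i V) (fun k => k.2) (hcov.trans le_sup_left)
  refine ⟨t, fun U hUV c hc => (ht ⟨U, hUV⟩).trans ?_, fun t' ht' => huniq t' fun k => ht' k.1 k.2 _ (hb k)⟩
  exact smul_eq_of_app_eq hK U ((hb ⟨U, hUV⟩).trans hc.symm) _

/-- The action of a function on the subscheme. -/
def act (hK : IsKilled i K) (V : X.Opens) (a : Γ(X, V)) (s : Γ(K, bigOpen i V)) : Γ(K, bigOpen i V) :=
  (existsUnique_act hK V a s).choose

lemma isAct_act (hK : IsKilled i K) (V : X.Opens) (a : Γ(X, V)) (s : Γ(K, bigOpen i V)) :
    IsAct V a s (act hK V a s) :=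
  (existsUnique_act hK V a s).choose_spec.1

lemma act_eq (hK : IsKilled i K) {V : X.Opens} {a : Γ(X, V)} {s t : Γ(K, bigOpen i V)} (h : IsAct V a s t) :
    act hK V a s = t :=
  ((existsUnique_act hK V a s).choose_spec.2 t h).symm

/-- Sections of the descended module form a module over the functions of the subscheme. -/
@[reducible] def moduleSections (hK : IsKilled i K) (V : X.Opens) : Module Γ(X, V) Γ(K, bigOpen i V) where
  smul a s := act hK V a s
  one_smul s := act_eq hK fun U hUV b hb => by
    have h1 : i.app U.1 b = i.app U.1 1 := by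
      rw [hb, map_one]
      exact map_one (X.presheaf.map _).hom
    rw [smul_eq_of_app_eq hK U h1, one_smul]
  mul_smul a a' s := act_eq hK fun U hUV b hb => by
    change res K hUV (act hK V a (act hK V a' s)) = _
    obtain ⟨c, hc⟩ := exists_lift V a U hUV
    obtain ⟨c', hc'⟩ := exists_lift V a' U hUV
    rw [isAct_act hK V a _ U hUV c hc, isAct_act hK V a' s U hUV c' hc', smul_smul]
    refine smul_eq_of_app_eq hK U ?_ _
    rw [hb, map_mul, hc, hc']
    exact (map_mul (X.presheaf.map _).hom _ _).symm
  smul_zero a := act_eq hK fun U hUV b _ => by rw [res_zero, smul_zero]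
  smul_add a s t := act_eq hK fun U hUV b hb => by
    change res K hUV (act hK V a s + act hK V a t) = _
    rw [res_add, res_add, smul_add, isAct_act hK V a s U hUV b hb, isAct_act hK V a t U hUV b hb]
  add_smul a a' s := act_eq hK fun U hUV b hb => by
    change res K hUV (act hK V a s + act hK V a' s) = _
    obtain ⟨c, hc⟩ := exists_lift V a U hUV
    obtain ⟨c', hc'⟩ := exists_lift V a' U hUV
    rw [res_add, isAct_act hK V a s U hUV c hc, isAct_act hK V a' s U hUV c' hc', ← add_smul]
    refine smul_eq_of_app_eq hK U ?_ _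
    rw [hb, map_add, hc, hc']
    exact (map_add (X.presheaf.map _).hom _ _).symm
  zero_smul s := act_eq hK fun U hUV b hb => by
    have h1 : i.app U.1 b = i.app U.1 0 := by
      rw [hb, map_zero]
      exact map_zero (X.presheaf.map _).hom
    rw [res_zero, smul_eq_of_app_eq hK U h1, zero_smul]

variable (i K)

/-- The presheaf underlying the descended module. -/
def descPresheaf : TopCat.Presheaf AddCommGrpCat.{u} X.carrier where
  obj V := AddCommGrpCat.of Γ(K, bigOpen i V.unop)
  map f := AddCommGrpCat.ofHom (K.presheaf.map (homOfLE (bigOpen_mono i f.unop.le)).op).hom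
  map_id V := by
    ext s
    exact res_self s
  map_comp f g := by
    ext s
    exact (res_res (bigOpen_mono i f.unop.le) (bigOpen_mono i g.unop.le) s).symm

variable {i K}

/-- The descended module. -/
def descMod (hK : IsKilled i K) : X.Modules where
  val := @PresheafOfModules.ofPresheaf _ _ X.ringCatSheaf.obj (descPresheaf i K)
    (fun V => moduleSections hK V.unop)
    (fun V W f a s => by
      change res K (bigOpen_mono i f.unop.le) (act hK V.unop a s) =
        act hK W.unop (resO X f.unop.le a) (res K (bigOpen_mono i f.unop.le) s)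
      refine (act_eq hK fun U hUW b hb => ?_).symm
      rw [res_res, res_res]
      exact isAct_act hK V.unop a s U _ b (hb.trans (resO_resO _ _ _)))
  isSheaf := by
    refine (TopCat.Presheaf.isSheaf_iff_isSheafUniqueGluing (descPresheaf i K)).mpr ?_
    intro ι V sf hsf
    refine existsUnique_glue hK (fun k => bigOpen i (V k)) sf (fun k l => ?_) (bigOpen i (iSup V))
      (fun k => bigOpen_mono i (le_iSup V k)) (bigOpen_le ?_)
    · have h : bigOpen i (V k) ⊓ bigOpen i (V l) ≤ bigOpen i (V k ⊓ V l) := fun x hx ⟨y, hy, e⟩ => by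
        by_cases hk : y ∈ V k
        · exact hx.2 ⟨y, fun hl => hy ⟨hk, hl⟩, e⟩
        · exact hx.1 ⟨y, hk, e⟩
      have := congrArg (res K h) (hsf k l : res K (bigOpen_mono i inf_le_left) (sf k) =
        res K (bigOpen_mono i inf_le_right) (sf l))
      exact (res_res _ h (show Γ(K, bigOpen i (V k)) from sf k)).symm.trans
        (this.trans (res_res _ h (show Γ(K, bigOpen i (V l)) from sf l)))
    · ext z
      simp only [Scheme.Hom.preimage_iSup, preimage_bigOpen]

/-- Restriction to an open with the same trace on the subscheme. -/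
lemma bijective_resBig (hK : IsKilled i K) (U : P.Opens) :
    Function.Bijective (res K (le_bigOpen i U)) := by
  refine ⟨res_injective hK _ (bigOpen_le rfl), fun s => ?_⟩
  obtain ⟨t, ht, -⟩ := existsUnique_glue hK (fun _ : PUnit.{u + 1} => U) (fun _ => s)
    (fun _ _ => rfl) (bigOpen i (i ⁻¹ᵁ U)) (fun _ => le_bigOpen i U)
    ((bigOpen_le rfl).trans (sup_le_sup_right (le_iSup (fun _ : PUnit.{u + 1} => U) ⟨⟩) _))
  exact ⟨t, ht ⟨⟩⟩

/-- The comparison with the direct image. -/
def descHom (hK : IsKilled i K) : (Scheme.Modules.pushforward i).obj (descMod hK) ⟶ K :=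
  HomOn.toHom
    { app := fun U _ =>
        { toFun := fun (s : Γ(K, bigOpen i (i ⁻¹ᵁ U))) => res K (le_bigOpen i U) s
          map_add' := fun s t => res_add _ _ _
          map_smul' := fun a s => by
            let s' : Γ(K, bigOpen i (i ⁻¹ᵁ U)) := s
            change res K (le_bigOpen i U) (act hK _ (i.app U a) s') = a • res K (le_bigOpen i U) s'
            refine section_ext K _ _ fun p hp => ?_
            obtain ⟨_, ⟨W, hW, rfl⟩, hpW, hWU⟩ := P.isBasis_affineOpens.exists_subset_of_mem_open hp U.2
            refine ⟨W, hWU, hpW, ?_⟩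
            rw [res_smul, res_res, res_res]
            exact isAct_act hK _ _ s' ⟨W, hW⟩ _ _ (QCqs72.app_resO i hWU a) }
      app_res := fun {U U'} _ h s => (res_res _ _ _).trans (res_res _ _ _).symm }

theorem isIso_descHom (hK : IsKilled i K) : IsIso (descHom hK) := by
  rw [Scheme.Modules.Hom.isIso_iff_isIso_app]
  intro U
  exact (ConcreteCategory.isIso_iff_bijective _).2 (bijective_resBig hK U)

/-- A module killed by the ideal is a direct image. -/
def descIso (hK : IsKilled i K) : (Scheme.Modules.pushforward i).obj (descMod hK) ≅ K :=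
  @asIso _ _ _ _ (descHom hK) (isIso_descHom hK)

end Groth.Agent.GSS45.Descend
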