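import Groth.Agent.SpSeq49.Core

/-!
The `E₂` spectral sequence of a first-quadrant spectral object indexed by the extended integers, together with its abutment.
-/

universe v u

open CategoryTheory Category Limits ComposableArrows

namespace Groth.Agent.GSS45

variable {C : Type u} [Category.{v} C] [Abelian C] (X : Abelian.SpectralObject C EInt)

/-- The spectral sequence. -/
noncomputable abbrev ss : E₂CohomologicalSpectralSequence C := X.E₂SpectralSequence

/-- The second page. -/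
noncomputable def pageTwo (p q : ℤ) (h : (q : EInt) ≤ ((q + 1 : ℤ) : EInt)) :
    ((ss X).page 2 le_rfl).X (p, q) ≅ (X.H (p + q)).obj (mk₁ (homOfLE h)) :=
  X.spectralSequenceFirstPageXIso Abelian.SpectralObject.coreE₂Cohomological (p, q) _ _ (by simp) (by simp)
    (p + q) (by simp)

variable [X.IsFirstQuadrant]

lemma isZero_page {p q : ℤ} (h : p < 0 ∨ q < 0) (r : ℤ) (hr : 2 ≤ r) :
    IsZero (((ss X).page r hr).X (p, q)) := by
  refine X.isZero_spectralSequence_page_X_of_isZero_H _ r hr (p, q) (p + q) (by simp)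
    (q : EInt) ((q + 1 : ℤ) : EInt) (by simp) (by simp) ?_
  rcases h with h | h
  · exact X.isZero₂_of_isFirstQuadrant _ _ _ _ (by simp; lia)
  · exact X.isZero₁_of_isFirstQuadrant _ _ _ (by simp; lia) _

lemma isBounded : SpSeq.IsBounded (ss X) := fun n =>
  (Set.finite_Icc (0 : ℤ) n).subset fun p hp => by
    by_contra h
    exact hp (isZero_page X (by simp only [Set.mem_Icc] at h; lia) 2 le_rfl)

/-- A page from which a position no longer changes. -/
def rkPage (pq : ℤ × ℤ) : ℤ := max (|pq.1| + |pq.2| + 3) 2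

lemma stationary (pq : ℤ × ℤ) : SpSeq.StationaryAt (ss X) pq (rkPage pq) := by
  obtain ⟨p, q⟩ := pq
  refine ⟨le_max_right _ _, fun r h₀ hr => ⟨?_, ?_⟩⟩
  · refine IsZero.eq_of_src (isZero_page X ?_ r h₀) _ _
    simp only [rkPage] at hr
    have h1 := le_abs_self p
    have h2 := abs_nonneg q
    left
    show p - r < 0
    omega
  · refine IsZero.eq_of_tgt (isZero_page X ?_ r h₀) _ _
    simp only [rkPage] at hr
    have h1 := le_abs_self q
    have h2 := abs_nonneg p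
    right
    show q + (1 - r) < 0
    omega

/-- The abutment in a given degree. -/
noncomputable abbrev abH (n : ℤ) : C := (X.H n).obj (mk₁ (homOfLE (bot_le : (⊥ : EInt) ≤ ⊤)))

/-- The filtration on the abutment. -/
noncomputable def abFil (n p : ℤ) : Subobject (abH X n) :=
  imageSubobject (SpSeq49.abMap X n ((n - p + 1 : ℤ) : EInt))

omit [X.IsFirstQuadrant] in
lemma abFil_anti (n : ℤ) : Antitone (abFil X n) := fun p p' h => by
  simp only [abFil, ← SpSeq49.abMap_comp X n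
    (show ((n - p' + 1 : ℤ) : EInt) ≤ ((n - p + 1 : ℤ) : EInt) by simp; lia), imageSubobject_comp_le]

lemma nonempty_page_iso_gr (p q : ℤ) :
    Nonempty (((ss X).page (rkPage (p, q)) (le_max_right _ _)).X (p, q) ≅
      SpSeq.grPiece (abFil X (p + q)) (abFil_anti X (p + q)) p) := by
  set r := rkPage (p, q) with hr
  have h1 := le_abs_self p
  have h2 := le_abs_self q
  have h3 := abs_nonneg p
  have h4 := abs_nonneg q
  simp only [rkPage] at hr
  have hz₀ : IsZero ((X.H (p + q + 1)).obj (mk₁ (homOfLE (bot_le : ⊥ ≤ ((q - r + 2 : ℤ) : EInt))))) :=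
    X.isZero₁_of_isFirstQuadrant _ _ _ (by simp; omega) _
  have hz₃ : IsZero ((X.H (p + q - 1)).obj (mk₁ (homOfLE (le_top : ((q + r - 1 : ℤ) : EInt) ≤ ⊤)))) :=
    X.isZero₂_of_isFirstQuadrant _ _ _ _ (by simp; omega)
  have e₁ := X.spectralSequencePageXIso Abelian.SpectralObject.coreE₂Cohomological r (le_max_right _ _)
    (p, q) ((q - r + 2 : ℤ) : EInt) ((q : ℤ) : EInt) ((q + 1 : ℤ) : EInt) ((q + r - 1 : ℤ) : EInt)
    (by simp) (by simp) (by simp) (by simp) (p + q - 1) (p + q) (p + q + 1) (by simp)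
  have e₂ := (X.isoMapFourδ₁Toδ₀' ⊥ ((q - r + 2 : ℤ) : EInt) ((q : ℤ) : EInt) ((q + 1 : ℤ) : EInt)
    ((q + r - 1 : ℤ) : EInt) bot_le (by simp; omega) (by simp) (by simp; omega)
    (p + q - 1) (p + q) (p + q + 1) hz₀).symm
  have e₃ := X.isoMapFourδ₄Toδ₃' ⊥ ((q : ℤ) : EInt) ((q + 1 : ℤ) : EInt) ((q + r - 1 : ℤ) : EInt) ⊤
    bot_le (by simp) (by simp; omega) le_top (p + q - 1) (p + q) (p + q + 1) hz₃
  have hle : ((q : ℤ) : EInt) ≤ ((q + 1 : ℤ) : EInt) := by simp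
  let a := (X.H (p + q)).map (twoδ₂Toδ₁ (homOfLE (bot_le : ⊥ ≤ ((q : ℤ) : EInt))) (homOfLE hle)
    (homOfLE bot_le) rfl)
  let d := X.δ (homOfLE (bot_le : ⊥ ≤ ((q + 1 : ℤ) : EInt))) (homOfLE (le_top : ((q + 1 : ℤ) : EInt) ≤ ⊤))
    (p + q - 1) (p + q)
  have hseq := X.cokernelSequenceE_exact (homOfLE (bot_le : ⊥ ≤ ((q : ℤ) : EInt))) (homOfLE hle)
    (homOfLE (le_top : ((q + 1 : ℤ) : EInt) ≤ ⊤)) (homOfLE bot_le) rfl (p + q - 1) (p + q) (p + q + 1)
  have key : ∀ (k : ℤ) (j : EInt), j = ((p + q - k + 1 : ℤ) : EInt) →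
      imageSubobject (SpSeq49.abMap X (p + q) j) = abFil X (p + q) k := by rintro k j rfl; rfl
  have hab : imageSubobject (a ≫ SpSeq49.abMap X (p + q) ((q + 1 : ℤ) : EInt)) =
      abFil X (p + q) (p + 1) := by
    refine Eq.trans ?_ (key (p + 1) ((q : ℤ) : EInt) (congrArg WithBotTop.coe (by omega)))
    simp only [← SpSeq49.abMap_comp X (p + q) hle, a]
  obtain ⟨e₄⟩ := SpSeq49.subquot_image_iso a d (SpSeq49.abMap X (p + q) ((q + 1 : ℤ) : EInt))
    (X.zero₁ _ _ _ _ _ _) (X.exact₁ _ _ _ rfl (p + q - 1) (p + q)) (imageSubobject_comp_le _ _)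
    _ (by dsimp [Abelian.SpectralObject.cokernelSequenceE]; infer_instance)
    (X.cokernelSequenceE (homOfLE (bot_le : ⊥ ≤ ((q : ℤ) : EInt))) (homOfLE hle)
      (homOfLE (le_top : ((q + 1 : ℤ) : EInt) ≤ ⊤)) (homOfLE bot_le) rfl (p + q - 1) (p + q) (p + q + 1)
      (sub_add_cancel _ _) rfl).zero hseq
  obtain ⟨e₅⟩ := SpSeq49.nonempty_cokernel_ofLE_congr hab
    (key p ((q + 1 : ℤ) : EInt) (congrArg WithBotTop.coe (by omega))) (imageSubobject_comp_le _ _)
    (abFil_anti X (p + q) (show p ≤ p + 1 by lia))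
  exact ⟨e₁ ≪≫ e₂ ≪≫ e₃ ≪≫ e₄ ≪≫ e₅⟩

/-- The abutment data. -/
noncomputable def abutment {H : ℤ → C} (e : ∀ n, abH X n ≅ H n) : SpSeq.Abutment (ss X) H := by
  refine
  { fil := fun n p => imageSubobject (SpSeq49.abMap X n ((n - p + 1 : ℤ) : EInt) ≫ (e n).hom)
    anti := fun n p p' h => ?_
    rk := rkPage
    stat := stationary X
    β := fun pq => (nonempty_page_iso_gr X pq.1 pq.2).some ≪≫ ?_ }
  · simp only [← SpSeq49.abMap_comp X n
      (show ((n - p' + 1 : ℤ) : EInt) ≤ ((n - p + 1 : ℤ) : EInt) by simp; lia), assoc]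
    exact imageSubobject_comp_le _ _
  · refine cokernel.mapIso _ _ (imageSubobjectCompIso (SpSeq49.abMap X _ _) (e _).hom).symm
      (imageSubobjectCompIso (SpSeq49.abMap X _ _) (e _).hom).symm ?_
    rw [← cancel_mono (Subobject.arrow _)]
    simp only [assoc, Subobject.ofLE_arrow, Iso.symm_hom, imageSubobjectCompIso_inv_arrow, abFil]
    exact Subobject.ofLE_arrow_assoc _ _

lemma abutment_isFinite {H : ℤ → C} (e : ∀ n, abH X n ≅ H n) (n : ℤ) :
    (abutment X e).IsFinite n := by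
  refine ⟨⟨0, ?_⟩, n + 1, ?_⟩
  · change imageSubobject (SpSeq49.abMap X n ((n - 0 + 1 : ℤ) : EInt) ≫ (e n).hom) = ⊤
    have : Epi (SpSeq49.abMap X n ((n - 0 + 1 : ℤ) : EInt)) :=
      (X.exact₂ (homOfLE (bot_le : ⊥ ≤ ((n - 0 + 1 : ℤ) : EInt))) (homOfLE le_top) (homOfLE bot_le) rfl n).epi_f
        ((X.isZero₂_of_isFirstQuadrant _ _ _ n (by simp)).eq_of_tgt _ _)
    have := epi_comp (SpSeq49.abMap X n ((n - 0 + 1 : ℤ) : EInt)) (e n).hom
    have : Epi (imageSubobject (SpSeq49.abMap X n ((n - 0 + 1 : ℤ) : EInt) ≫ (e n).hom)).arrow :=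
      epi_of_epi_fac (imageSubobject_arrow_comp _)
    have := isIso_of_mono_of_epi (imageSubobject (SpSeq49.abMap X n ((n - 0 + 1 : ℤ) : EInt) ≫ (e n).hom)).arrow
    exact Subobject.eq_top_of_isIso_arrow _
  · change imageSubobject (SpSeq49.abMap X n ((n - (n + 1) + 1 : ℤ) : EInt) ≫ (e n).hom) = ⊥
    simp only [(X.isZero₁_of_isFirstQuadrant _ _ _ (by simp) n).eq_of_src
      (SpSeq49.abMap X n ((n - (n + 1) + 1 : ℤ) : EInt)) 0, zero_comp, imageSubobject_zero]

/-- A first-quadrant spectral object gives a bounded `E₂` spectral sequence with finite abutment. -/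
theorem exists_spectralSequence {H : ℤ → C} (e : ∀ n, abH X n ≅ H n) {E₂ : ℤ → ℤ → C}
    (hE : ∀ (p q : ℤ) (h : (q : EInt) ≤ ((q + 1 : ℤ) : EInt)), 0 ≤ p → 0 ≤ q →
      Nonempty ((X.H (p + q)).obj (mk₁ (homOfLE h)) ≅ E₂ p q))
    (hE0 : ∀ p q : ℤ, p < 0 ∨ q < 0 → IsZero (E₂ p q)) :
    ∃ (E : E₂CohomologicalSpectralSequence C) (a : SpSeq.Abutment E H),
      (∀ n, a.IsFinite n) ∧ SpSeq.IsBounded E ∧
        ∀ p q : ℤ, Nonempty ((E.page 2 le_rfl).X (p, q) ≅ E₂ p q) := by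
  refine ⟨ss X, abutment X e, abutment_isFinite X e, isBounded X, fun p q => ?_⟩
  by_cases h : p < 0 ∨ q < 0
  · exact ⟨(isZero_page X h 2 le_rfl).iso (hE0 p q h)⟩
  · obtain ⟨i⟩ := hE p q (by simp) (by lia) (by lia)
    exact ⟨pageTwo X p q (by simp) ≪≫ i⟩

end Groth.Agent.GSS45
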