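import Groth.Agent.GSS45.UGen
import Mathlib.CategoryTheory.Adjunction.Additive
import Mathlib.CategoryTheory.Preadditive.Yoneda.Limits
import Mathlib.CategoryTheory.Preadditive.Injective.Basic

/-!
Sections with supports: adjointness, injectives, compatibility with the internal hom.
-/

set_option autoImplicit false
set_option backward.isDefEq.respectTransparency false

universe u

open CategoryTheory CategoryTheory.Limits Opposite

namespace Groth.Agent.GSS45

open Mod48

variable {C : Type u} [SmallCategory C] {J : GrothendieckTopology C} {O : Sheaf J CommRingCat.{u}} (U : C)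

section adj

variable [ModSite.HasPushOver O U]

lemma comp_unit_eq_zero_iff {F G : ModSite.Mod O} (φ : F ⟶ G) :
    φ ≫ (ModSite.restrPushOverAdj O U).unit.app G = 0 ↔ (ModSite.restr O U).map φ = 0 := by
  let adj := ModSite.restrPushOverAdj O U
  have key : φ ≫ adj.unit.app G = adj.homEquiv F _ ((ModSite.restr O U).map φ) := by
    rw [adj.homEquiv_unit]
    exact adj.unit.naturality φ
  have key0 : adj.homEquiv F ((ModSite.restr O U).obj G) 0 = 0 := by
    have := adj.right_adjoint_additive
    rw [adj.homEquiv_unit, Functor.map_zero, comp_zero]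
  constructor
  · exact fun h => (adj.homEquiv F _).injective (key.symm.trans (h.trans key0.symm))
  · exact fun h => key.trans ((congrArg (adj.homEquiv F _) h).trans key0)

lemma counit_comp_eq_zero_iff {F G : ModSite.Mod O} (φ : F ⟶ G) :
    (ModSite.extZeroAdj O U).counit.app F ≫ φ = 0 ↔
      φ ≫ (ModSite.restrPushOverAdj O U).unit.app G = 0 :=
  (ExtSupp.mem_homZ_iff U φ).symm.trans (comp_unit_eq_zero_iff U φ).symm

/-- Maps out of `F/F_U` are maps into the sections with supports. -/
noncomputable def quotSectHomEquiv (F G : ModSite.Mod O) :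
    ((ModSite.quotOn O U).obj F ⟶ G) ≃ (F ⟶ (ModSite.sectOn O U).obj G) where
  toFun h := kernel.lift _ ((ModSite.quotOnπ O U).app F ≫ h) ((counit_comp_eq_zero_iff U _).1 (by
    have h0 : (ModSite.extZeroAdj O U).counit.app F ≫ (ModSite.quotOnπ O U).app F = 0 := cokernel.condition _
    exact (Category.assoc _ _ _).symm.trans ((congrArg (· ≫ h) h0).trans zero_comp)))
  invFun k := cokernel.desc _ (k ≫ (ModSite.sectOnι O U).app G) ((counit_comp_eq_zero_iff U _).2 (by
    have h0 : (ModSite.sectOnι O U).app G ≫ (ModSite.restrPushOverAdj O U).unit.app G = 0 := kernel.condition _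
    exact (Category.assoc _ _ _).trans ((congrArg (k ≫ ·) h0).trans comp_zero)))
  left_inv h := by
    refine coequalizer.hom_ext ((cokernel.π_desc _ _ _).trans ?_)
    exact kernel.lift_ι _ _ _
  right_inv k := by
    refine equalizer.hom_ext ((kernel.lift_ι _ _ _).trans ?_)
    exact cokernel.π_desc _ _ _

lemma quotSectHomEquiv_ι {F G : ModSite.Mod O} (h : (ModSite.quotOn O U).obj F ⟶ G) :
    quotSectHomEquiv U F G h ≫ (ModSite.sectOnι O U).app G = (ModSite.quotOnπ O U).app F ≫ h :=
  kernel.lift_ι _ _ _

lemma π_quotSectHomEquiv_symm {F G : ModSite.Mod O} (k : F ⟶ (ModSite.sectOn O U).obj G) :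
    (ModSite.quotOnπ O U).app F ≫ (quotSectHomEquiv U F G).symm k = k ≫ (ModSite.sectOnι O U).app G :=
  cokernel.π_desc _ _ _

/-- The quotient functor is left adjoint to sections with supports. -/
noncomputable def quotSectAdj : ModSite.quotOn O U ⊣ ModSite.sectOn O U :=
  Adjunction.mkOfHomEquiv
    { homEquiv := quotSectHomEquiv U
      homEquiv_naturality_left_symm := fun {F' F G} f g => by
        refine coequalizer.hom_ext ((π_quotSectHomEquiv_symm U _).trans ?_)
        have h := (ModSite.quotOnπ O U).naturality f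
        refine Eq.trans ?_ ((reassoc_of% h) ((quotSectHomEquiv U F G).symm g))
        refine Eq.trans ?_ (congrArg (f ≫ ·) (π_quotSectHomEquiv_symm U g).symm)
        exact Category.assoc _ _ _
      homEquiv_naturality_right := fun {F G G'} f g => by
        refine equalizer.hom_ext ((quotSectHomEquiv_ι U _).trans ?_)
        have h := (ModSite.sectOnι O U).naturality g
        refine Eq.trans ?_ ((Category.assoc _ _ _).trans (congrArg (quotSectHomEquiv U F G f ≫ ·) h)).symm
        exact (Category.assoc _ _ _).symm.trans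
          ((congrArg (· ≫ g) (quotSectHomEquiv_ι U f).symm).trans (Category.assoc _ _ _)) }

instance preservesMonomorphisms_quotOn : (ModSite.quotOn O U).PreservesMonomorphisms where
  preserves f hf := mono_quotOn_map f

theorem injective_sectOn (I : ModSite.Mod O) [Injective I] : Injective ((ModSite.sectOn O U).obj I) :=
  Injective.injective_of_adjoint (quotSectAdj U) I

theorem quotOn_additive : (ModSite.quotOn O U).Additive :=
  (quotSectAdj U).left_adjoint_additive

theorem preservesFiniteLimits_sectOn : PreservesFiniteLimits (ModSite.sectOn O U) :=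
  have : PreservesLimitsOfSize.{u, u} (ModSite.sectOn O U) :=
    (quotSectAdj (O := O) U).rightAdjoint_preservesLimits
  PreservesLimitsOfSize.preservesFiniteLimits _

end adj

section tensor

variable [ModSite.HasPushOver O U] (M : ModSite.Mod O)

/-- `- ⊗ M` as the left adjoint of the internal hom. -/
noncomputable def tRAdj [ModSite.HasSheafHom M] : tR M ⊣ ModSite.sheafHom M :=
  (ModSite.sheafHomAdj M).ofNatIsoLeft (tRIso M)

/-- The comparison map `(X ⊗ M)/(X ⊗ M)_U ⟶ X/X_U ⊗ M`. -/
noncomputable def quotTRInv (X : ModSite.Mod O) :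
    (ModSite.quotOn O U).obj ((tR M).obj X) ⟶ (tR M).obj ((ModSite.quotOn O U).obj X) :=
  cokernel.desc _ ((tR M).map ((ModSite.quotOnπ O U).app X))
    ((uGen_extZero U _).hom_eq_zero (isNullOn_tR (ExtSupp.isNullOn_quotOn O U X) M) _)

lemma π_quotTRInv (X : ModSite.Mod O) :
    (ModSite.quotOnπ O U).app _ ≫ quotTRInv U M X = (tR M).map ((ModSite.quotOnπ O U).app X) :=
  cokernel.π_desc _ _ _

omit [ModSite.HasPushOver O U] in
lemma tR_map_zero {A B : ModSite.Mod O} : (tR M).map (0 : A ⟶ B) = 0 := by
  have : (tR M).PreservesZeroMorphisms := Functor.preservesZeroMorphisms_of_preserves_initial_object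
  exact (tR M).map_zero A B

instance isIso_quotTRInv (X : ModSite.Mod O) : IsIso (quotTRInv U M X) := by
  let c := (ModSite.extZeroAdj O U).counit.app X
  have hz : (tR M).map c ≫ (ModSite.quotOnπ O U).app ((tR M).obj X) = 0 :=
    (uGen_tR U (uGen_extZero U _) M).hom_eq_zero (ExtSupp.isNullOn_quotOn O U _) _
  have h0 : c ≫ (ModSite.quotOnπ O U).app X = 0 := cokernel.condition _
  have hcol : IsColimit (CokernelCofork.ofπ ((tR M).map ((ModSite.quotOnπ O U).app X))
      (show (tR M).map c ≫ (tR M).map ((ModSite.quotOnπ O U).app X) = 0 by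
        rw [← Functor.map_comp]; exact (congrArg (tR M).map h0).trans (tR_map_zero M))) := by
    have : (tR M).PreservesZeroMorphisms := Functor.preservesZeroMorphisms_of_preserves_initial_object
    exact CokernelCofork.mapIsColimit _ (cokernelIsCokernel c) (tR M)
  let θ : (tR M).obj ((ModSite.quotOn O U).obj X) ⟶ (ModSite.quotOn O U).obj ((tR M).obj X) :=
    hcol.desc (CokernelCofork.ofπ _ hz)
  have hθ : (tR M).map ((ModSite.quotOnπ O U).app X) ≫ θ = (ModSite.quotOnπ O U).app _ :=
    hcol.fac (CokernelCofork.ofπ _ hz) WalkingParallelPair.one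
  refine ⟨θ, coequalizer.hom_ext ?_, Cofork.IsColimit.hom_ext hcol ?_⟩
  · exact (Category.assoc _ _ _).symm.trans ((congrArg (· ≫ θ) (π_quotTRInv U M X)).trans
      (hθ.trans (Category.comp_id _).symm))
  · exact (Category.assoc _ _ _).symm.trans ((congrArg (· ≫ quotTRInv U M X) hθ).trans
      ((π_quotTRInv U M X).trans (Category.comp_id _).symm))

/-- `(X ⊗ M)/(X ⊗ M)_U ≅ X/X_U ⊗ M`. -/
noncomputable def quotTRIso : tR M ⋙ ModSite.quotOn O U ≅ ModSite.quotOn O U ⋙ tR M :=
  NatIso.ofComponents (fun X => asIso (quotTRInv U M X)) (fun {X Y} f => by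
    refine coequalizer.hom_ext ?_
    have h1 := (ModSite.quotOnπ O U).naturality ((tR M).map f)
    have h2 := (ModSite.quotOnπ O U).naturality f
    refine ((reassoc_of% h1) _).symm.trans ?_
    refine (congrArg ((tR M).map f ≫ ·) (π_quotTRInv U M Y)).trans ?_
    refine Eq.trans ?_ ((congrArg (· ≫ (tR M).map ((ModSite.quotOn O U).map f)) (π_quotTRInv U M X)).symm.trans
      (Category.assoc _ _ _))
    exact ((tR M).map_comp _ _).symm.trans ((congrArg (tR M).map h2).trans ((tR M).map_comp _ _)))

/-- `X ⊗ M/M_U ≅ (X ⊗ M)/(X ⊗ M)_U`. -/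
noncomputable def tRQuotIso : tR ((ModSite.quotOn O U).obj M) ≅ tR M ⋙ ModSite.quotOn O U :=
  (tensSymm ((ModSite.quotOn O U).obj M)).symm ≪≫
    (NatIso.ofComponents (fun X => ((quotTRIso U X).app M).symm) (fun {X Y} g => by
      change _ ≫ ((quotTRIso U Y).app M).inv = ((quotTRIso U X).app M).inv ≫ _
      refine (Iso.comp_inv_eq _).2 ?_
      rw [Category.assoc]
      refine (Iso.eq_inv_comp _).2 ?_
      refine coequalizer.hom_ext ?_
      have h1 := (ModSite.quotOnπ O U).naturality ((tL M).map g)
      refine ((congrArg (· ≫ _) (π_quotTRInv U X M)).symm.trans (Category.assoc _ _ _)).symm.trans ?_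
      refine Eq.trans ?_ ((reassoc_of% h1) _)
      refine Eq.trans ?_ (congrArg ((tL M).map g ≫ ·) (π_quotTRInv U Y M).symm)
      refine ((shf (O := O)).map_comp _ _).symm.trans (Eq.trans ?_ ((shf (O := O)).map_comp _ _))
      exact congrArg shf.map (MonoidalCategory.whisker_exchange _ _).symm) :
        tL ((ModSite.quotOn O U).obj M) ≅ tL M ⋙ ModSite.quotOn O U) ≪≫
    Functor.isoWhiskerRight (tensSymm M) _

/-- Sections with supports commute with the internal hom. -/
noncomputable def sectSheafHomIso [ModSite.HasSheafHom M] :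
    ModSite.sheafHom M ⋙ ModSite.sectOn O U ≅ ModSite.sectOn O U ⋙ ModSite.sheafHom M :=
  Adjunction.rightAdjointUniq ((quotSectAdj U).comp (tRAdj M))
    (((tRAdj M).comp (quotSectAdj U)).ofNatIsoLeft (quotTRIso U M))

/-- Supports in the first variable of the internal hom. -/
noncomputable def sectSheafHomQuotIso [ModSite.HasSheafHom M]
    [ModSite.HasSheafHom ((ModSite.quotOn O U).obj M)] :
    ModSite.sheafHom M ⋙ ModSite.sectOn O U ≅ ModSite.sheafHom ((ModSite.quotOn O U).obj M) :=
  sectSheafHomIso U M ≪≫ Adjunction.rightAdjointUniq ((tRAdj M).comp (quotSectAdj U))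
    ((tRAdj ((ModSite.quotOn O U).obj M)).ofNatIsoLeft (tRQuotIso U M))

end tensor

section hom

/-- The additive functor of maps out of an object. -/
noncomputable abbrev coyo {A : Type (u + 1)} [Category.{u} A] [Preadditive A] (X : A) :
    A ⥤ AddCommGrpCat.{u} :=
  preadditiveCoyoneda.obj (op X)

/-- An adjunction on maps, additively. -/
noncomputable def adjCoyoIso {A B : Type (u + 1)} [Category.{u} A] [Preadditive A] [Category.{u} B]
    [Preadditive B] {L : A ⥤ B} {R : B ⥤ A} (adj : L ⊣ R) [L.Additive] (X : A) :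
    R ⋙ coyo X ≅ coyo (L.obj X) :=
  NatIso.ofComponents (fun Y => (adj.homAddEquiv X Y).symm.toAddCommGrpIso) (fun {Y Z} f => by
    ext x
    exact adj.homEquiv_naturality_right_symm x f)

variable (O)

/-- Global sections of the internal hom. -/
noncomputable def sheafHomCoyoIso (M : ModSite.Mod O) [ModSite.HasSheafHom M] :
    ModSite.sheafHom M ⋙ coyo (ModSite.unit O) ≅ coyo M := by
  have : (tR M).Additive := (tRAdj M).left_adjoint_additive
  exact adjCoyoIso (tRAdj M) (ModSite.unit O) ≪≫
    preadditiveCoyoneda.mapIso ((tensUnit (O := O)).app M).op.symm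

variable {O}

/-- Global sections with supports of the internal hom. -/
noncomputable def gammaZHomIso [ModSite.HasPushOver O U] (M : ModSite.Mod O) [ModSite.HasSheafHom M] :
    ExtSupp.gammaZHom U M ≅ coyo ((ModSite.quotOn O U).obj M) := by
  have : (tR M).Additive := (tRAdj M).left_adjoint_additive
  have := quotOn_additive (O := O) U
  exact Functor.isoWhiskerLeft (ModSite.sheafHom M) (adjCoyoIso (quotSectAdj U) (ModSite.unit O)) ≪≫
    adjCoyoIso (tRAdj M) ((ModSite.quotOn O U).obj (ModSite.unit O)) ≪≫
    preadditiveCoyoneda.mapIso ((quotTRIso U M).app (ModSite.unit O)).op ≪≫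
    preadditiveCoyoneda.mapIso ((ModSite.quotOn O U).mapIso ((tensUnit (O := O)).app M)).op.symm

end hom

end Groth.Agent.GSS45
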