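import Groth.Agent.GSS45.ExtAdj
import Groth.Agent.GSS45.Supports
import Groth.Agent.Mod48.SubterminalSupp

/-!
Excision for `Ext` with supports along a subterminal object.
-/

set_option autoImplicit false
set_option backward.isDefEq.respectTransparency false

universe w w' u

open CategoryTheory CategoryTheory.Limits Opposite CategoryTheory.Abelian

namespace Groth.Agent.GSS45.Excision

variable {C : Type u} [SmallCategory C] {J : GrothendieckTopology C} {O : Sheaf J CommRingCat.{u}}

lemma restr_app_zero {G H : ModSite.Mod O} (V : C) (φ : G ⟶ H) (h : (ModSite.restr O V).map φ = 0)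
    {W : C} (g : W ⟶ V) (x : (Mod48.pre G).obj (op W)) : φ.val.app (op W) x = 0 :=
  congrArg (fun ψ : (ModSite.restr O V).obj G ⟶ (ModSite.restr O V).obj H =>
    (ψ.val.app (op (Over.mk g))).hom x) h

/-- The counit is an isomorphism on modules vanishing outside a subterminal open. -/
theorem isIso_counit {U V : C} (hV : ∀ X : C, Subsingleton (X ⟶ V))
    (hUV : J.CoversTop (fun b : Bool => cond b U V)) (Q : ModSite.Mod O) (hQ : ModSite.IsNullOn O U Q) :
    IsIso ((ModSite.extZeroAdj O V).counit.app Q) := by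
  let adj := ModSite.extZeroAdj O V
  let c := adj.counit.app Q
  have := Mod48.mono_extZero_counit V hV Q
  have key : Sheaf.IsLocallySurjective ((SheafOfModules.toSheaf (ModSite.ringSh O)).map c) := by
    refine ⟨fun {W} s => J.superset_covering ?_ (hUV W)⟩
    rintro Z g ⟨b, ⟨k⟩⟩
    cases b with
    | true =>
      refine ⟨0, (map_zero (c.val.app (op Z)).hom).trans ?_⟩
      exact (GSS45.null_apply hQ k _).symm
    | false =>
      let s' : (Mod48.pre Q).obj (op Z) := Mod48.res (Mod48.pre Q) g.op s
      refine ⟨((adj.unit.app ((ModSite.restr O V).obj Q)).val.app (op (Over.mk k))).hom s', ?_⟩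
      exact congrArg (fun ψ : (ModSite.restr O V).obj Q ⟶ (ModSite.restr O V).obj Q =>
        (ψ.val.app (op (Over.mk k))).hom s') (adj.right_triangle_components Q)
  have := (Sheaf.isLocallySurjective_iff_epi' (A := AddCommGrpCat.{u})
    ((SheafOfModules.toSheaf (ModSite.ringSh O)).map c)).1 key
  have : Epi c := (SheafOfModules.toSheaf (ModSite.ringSh O)).epi_of_epi_map this
  exact isIso_of_mono_of_epi c

/-- The quotient by the part on `U` commutes with restriction to `V`. -/
theorem nonempty_quotOn_restr [HasBinaryProducts C] (U V : C) (M : ModSite.Mod O) :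
    Nonempty ((ModSite.quotOn (O.over V) (Over.mk (prod.snd : U ⨯ V ⟶ V))).obj ((ModSite.restr O V).obj M) ≅
      (ModSite.restr O V).obj ((ModSite.quotOn O U).obj M)) := by
  let W : Over V := Over.mk (prod.snd : U ⨯ V ⟶ V)
  let R := ModSite.restr O V
  have := ExtAdj.preservesFiniteColimits_restr (O := O) V
  let π := (ModSite.quotOnπ O U).app M
  let c := (ModSite.extZeroAdj O U).counit.app M
  have hc : c ≫ π = 0 := cokernel.condition _
  have hcol : IsColimit (CokernelCofork.ofπ (R.map π)
      (show R.map c ≫ R.map π = 0 by rw [← Functor.map_comp, hc, Functor.map_zero])) :=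
    CokernelCofork.mapIsColimit _ (cokernelIsCokernel c) R
  have hcond : (ModSite.extZeroAdj (O.over V) W).counit.app (R.obj M) ≫ R.map π = 0 := by
    refine (ExtSupp.mem_homZ_iff W _).1 ?_
    change (ModSite.restr (O.over V) W).map (R.map π) = 0
    apply (SheafOfModules.toSheaf _).map_injective
    ext Y m
    exact (ExtSupp.isNullOn_iff O U _).1 (ExtSupp.isNullOn_quotOn O U M)
      (Y.unop.hom.left ≫ prod.fst) _
  have hepi : Epi (R.map π) := Cofork.IsColimit.epi hcol
  refine ⟨(cokernelIsCokernel _).coconePointUniqueUpToIso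
    (CokernelCofork.IsColimit.ofπ' (R.map π) hcond fun {G} φ hφ => ?_)⟩
  have hz : (ModSite.restr (O.over V) W).map φ = 0 := (ExtSupp.mem_homZ_iff W φ).2 hφ
  have hcφ : R.map c ≫ φ = 0 := by
    apply (SheafOfModules.toSheaf _).map_injective
    ext Y x
    obtain ⟨S, hS, hs⟩ := GSS45.uGen_extZero U ((ModSite.restr O U).obj M) Y.unop.left x
    refine Mod48.ext_of_sieve (H := G) ((GrothendieckTopology.mem_over_iff J _).2
      (by simpa using hS) : (Sieve.overEquiv Y.unop).symm S ∈ J.over V Y.unop) fun Z g hg => ?_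
    refine (Mod48.app_res (R.map c ≫ φ).val g.op x).symm.trans ?_
    refine Eq.trans ?_ (map_zero ((Mod48.pre G).map g.op).hom).symm
    rcases hs g.left ((Sieve.overEquiv_symm_iff S g).1 hg) with ⟨⟨k⟩⟩ | h0
    · exact restr_app_zero (O := O.over V) W φ hz
        (Over.homMk (prod.lift k Z.hom) (prod.lift_snd _ _) : Z ⟶ W) _
    · exact (congrArg ((R.map c ≫ φ).val.app (op Z)).hom h0).trans (map_zero _)
  exact ⟨hcol.desc (CokernelCofork.ofπ φ hcφ), hcol.fac (CokernelCofork.ofπ φ hcφ) WalkingParallelPair.one⟩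

/-- `Ext` along an isomorphism in the first variable. -/
noncomputable def extIsoLeft {A : Type*} [Category A] [Abelian A] [HasExt.{w} A] {X Y : A} (e : X ≅ Y)
    (N : A) (i : ℕ) : Ext.{w} Y N i ≃+ Ext.{w} X N i :=
  (((extFunctor.{w} i).mapIso e.op).app N).addCommGroupIsoToAddEquiv

/-- Excision. -/
theorem nonempty_extZ_over [HasBinaryProducts C] [HasExt.{w} (ModSite.Mod O)] (U V : C)
    [HasExt.{w'} (ModSite.Mod (O.over V))] (hV : ∀ X : C, Subsingleton (X ⟶ V))
    (hUV : J.CoversTop (fun b : Bool => cond b U V)) (M N : ModSite.Mod O) (i : ℕ) :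
    Nonempty (ExtSupp.ExtZ U M N i ≃+ ExtSupp.ExtZover V (Over.mk (prod.snd : U ⨯ V ⟶ V)) M N i) := by
  have := isIso_counit hV hUV ((ModSite.quotOn O U).obj M) (ExtSupp.isNullOn_quotOn O U M)
  obtain ⟨e⟩ := ExtAdj.nonempty_ext_openMod V ((ModSite.quotOn O U).obj M) N i
  obtain ⟨q⟩ := nonempty_quotOn_restr U V M
  exact ⟨((extIsoLeft (asIso ((ModSite.extZeroAdj O V).counit.app ((ModSite.quotOn O U).obj M))) N i).trans e).trans
    (extIsoLeft q _ i)⟩

end Groth.Agent.GSS45.Excision
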