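import Groth.Agent.SiteMod.ExtZero
import Groth.Agent.SiteMod.Injective
import Groth.Agent.Mod48.Exact
import Groth.Prelude.Def_ExtSupp

/-!
Modules locally living on a given object of a site, and modules killed by it.
-/

set_option autoImplicit false
set_option backward.isDefEq.respectTransparency false

universe u

open CategoryTheory CategoryTheory.Limits Opposite MonoidalCategory

namespace Groth.Agent.GSS45

open Mod48

variable {C : Type u} [SmallCategory C] {J : GrothendieckTopology C} {O : Sheaf J CommRingCat.{u}}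

section basics

lemma app_injective {F G : ModSite.Mod O} (φ : F ⟶ G) [Mono φ] (X : Cᵒᵖ) :
    Function.Injective (φ.val.app X) := by
  have : Mono ((SheafOfModules.toSheaf (ModSite.ringSh O)).map φ) := inferInstance
  have : Mono ((sheafToPresheaf J AddCommGrpCat.{u}).map ((SheafOfModules.toSheaf (ModSite.ringSh O)).map φ)) :=
    inferInstance
  exact (AddCommGrpCat.mono_iff_injective _).1 ((NatTrans.mono_iff_mono_app _).1 this X)

lemma mono_of_app_injective {F G : ModSite.Mod O} (φ : F ⟶ G)
    (h : ∀ X, Function.Injective (φ.val.app X)) : Mono φ := by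
  have : Mono ((fgt (O := O)).map φ) := PresheafOfModules.mono_of_injective (fun {X} => h X)
  exact (fgt (O := O)).mono_of_mono_map this

lemma exists_preimage {F G : ModSite.Mod O} (φ : F ⟶ G) [Epi φ] (V : C) (s : (pre G).obj (op V)) :
    ∃ S ∈ J V, ∀ ⦃W : C⦄ (g : W ⟶ V), S g → ∃ m : (pre F).obj (op W), φ.val.app _ m = res (pre G) g.op s := by
  have := toSheaf_preservesColimits (O := O)
  have : Epi ((SheafOfModules.toSheaf (ModSite.ringSh O)).map φ) := inferInstance
  have hsurj := (Sheaf.isLocallySurjective_iff_epi' (A := AddCommGrpCat.{u})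
    ((SheafOfModules.toSheaf (ModSite.ringSh O)).map φ)).2 this
  exact ⟨_, hsurj.imageSieve_mem s, fun _ _ hg => hg⟩

lemma exists_preimage_of_exact (S : ShortComplex (ModSite.Mod O)) (hS : S.Exact) (V : C)
    (s : (pre S.X₂).obj (op V)) (h : S.g.val.app (op V) s = 0) :
    ∃ T ∈ J V, ∀ ⦃W : C⦄ (g : W ⟶ V), T g →
      ∃ m : (pre S.X₁).obj (op W), S.f.val.app _ m = res (pre S.X₂) g.op s := by
  have := hS.epi_kernelLift
  let T : ShortComplex (ModSite.Mod O) := ShortComplex.mk (kernel.ι S.g) S.g (kernel.condition _)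
  have hT : T.Exact := ShortComplex.exact_of_f_is_kernel _ (kernelIsKernel S.g)
  let Γ : ModSite.Mod O ⥤ AddCommGrpCat.{u} := SheafOfModules.toSheaf (ModSite.ringSh O) ⋙
    sheafToPresheaf J AddCommGrpCat.{u} ⋙ (evaluation Cᵒᵖ AddCommGrpCat.{u}).obj (op V)
  have : PreservesFiniteLimits Γ := inferInstance
  have hΓ : (T.map Γ).Exact :=
    ShortComplex.Exact.map_of_mono_of_preservesKernel hT Γ inferInstance inferInstance
  obtain ⟨k, hk⟩ := (ShortComplex.ab_exact_iff _).1 hΓ s h
  obtain ⟨T', hT', hm⟩ := exists_preimage (kernel.lift S.g S.f S.zero) V k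
  refine ⟨T', hT', fun W g hg => ?_⟩
  obtain ⟨m, hm⟩ := hm g hg
  refine ⟨m, ?_⟩
  have e : (kernel.ι S.g).val.app (op W) ((kernel.lift S.g S.f S.zero).val.app (op W) m) =
      S.f.val.app (op W) m := by
    rw [← LinearMap.comp_apply]
    exact LinearMap.congr_fun (congrArg ModuleCat.Hom.hom
      (congrArg (fun φ : S.X₁ ⟶ S.X₂ => φ.val.app (op W)) (kernel.lift_ι S.g S.f S.zero))) m
  exact e.symm.trans ((congrArg ((kernel.ι S.g).val.app (op W)) hm).trans
    ((app_res (fgt.map (kernel.ι S.g)) g.op k).trans (congrArg (res (pre S.X₂) g.op) hk)))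

lemma res_id (P : PreM O) {X : Cᵒᵖ} (m : P.obj X) : res P (𝟙 X) m = m := by
  change P.map (𝟙 X) m = m
  rw [PresheafOfModules.map_id]
  rfl

end basics

variable (U : C)

/-- Sections that locally live on `U` or vanish. -/
def UGenSec (P : PreM O) (V : C) (s : P.obj (op V)) : Prop :=
  ∃ S ∈ J V, ∀ ⦃W : C⦄ (g : W ⟶ V), S g → Nonempty (W ⟶ U) ∨ res P g.op s = 0

/-- All sections locally live on `U` or vanish. -/
def UGen (X : ModSite.Mod O) : Prop := ∀ V (s : (pre X).obj (op V)), UGenSec U (pre X) V s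

variable {U}

lemma UGenSec.zero (P : PreM O) (V : C) : UGenSec U P V 0 :=
  ⟨⊤, J.top_mem V, fun W g _ => Or.inr (map_zero (P.map g.op).hom)⟩

lemma UGenSec.add {P : PreM O} {V : C} {s t : P.obj (op V)} (hs : UGenSec U P V s) (ht : UGenSec U P V t) :
    UGenSec U P V (s + t) := by
  obtain ⟨S, hS, hs⟩ := hs
  obtain ⟨T, hT, ht⟩ := ht
  refine ⟨S ⊓ T, J.intersection_covering hS hT, fun W g hg => ?_⟩
  rcases hs g hg.1 with h | h
  · exact Or.inl h
  rcases ht g hg.2 with h' | h'
  · exact Or.inl h'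
  exact Or.inr (by rw [res_add, h, h', add_zero])

lemma UGenSec.map {P Q : PreM O} (φ : P ⟶ Q) {V : C} {s : P.obj (op V)} (hs : UGenSec U P V s) :
    UGenSec U Q V (φ.app _ s) := by
  obtain ⟨S, hS, hs⟩ := hs
  exact ⟨S, hS, fun W g hg => (hs g hg).imp id fun h => by rw [← app_res, h, map_zero]⟩

lemma UGenSec.of_cover {P : PreM O} {V : C} {s : P.obj (op V)} {S : Sieve V} (hS : S ∈ J V)
    (h : ∀ ⦃W : C⦄ (g : W ⟶ V), S g → UGenSec U P W (res P g.op s)) : UGenSec U P V s := by
  choose T hT hs using h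
  refine ⟨Sieve.bind S.arrows fun W g hg => T g hg, J.bind_covering hS fun W g hg => hT g hg,
    fun W g hg => ?_⟩
  obtain ⟨Z, f, k, hk, hf, rfl⟩ := hg
  rcases hs k hk f hf with h | h
  · exact Or.inl h
  · rw [res_res, ← op_comp] at h
    exact Or.inr h

/-- A sheafified presheaf locally lives on `U` if its sections do. -/
lemma uGen_shf {P : PreM O} (h : ∀ V (s : P.obj (op V)), UGenSec U P V s) : UGen U (shf.obj P) := by
  intro V s
  obtain ⟨S, hS, hp⟩ := locally_preimage
    ((isIso_shf_map_iff_isLocalIso (shfU P)).1 inferInstance) (op V) s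
  refine UGenSec.of_cover hS fun W g hg => ?_
  obtain ⟨m, hm⟩ := hp g hg
  rw [← hm]
  exact (h W m).map _

lemma UGen.of_iso {X Y : ModSite.Mod O} (e : X ≅ Y) (h : UGen U X) : UGen U Y := fun V s => by
  have := (h V ((fgt.mapIso e).inv.app (op V) s)).map (fgt.mapIso e).hom
  have e' := LinearMap.congr_fun (congrArg ModuleCat.Hom.hom
    (congrArg (fun ψ : pre Y ⟶ pre Y => ψ.app (op V)) (fgt.mapIso e).inv_hom_id)) s
  exact (show ((fgt.mapIso e).hom.app (op V)) ((fgt.mapIso e).inv.app (op V) s) = s from e') ▸ this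

variable (U)

/-- Extension by zero lives on `U`. -/
lemma uGen_extZero (M : ModSite.Mod (O.over U)) : UGen U ((ModSite.extZero O U).obj M) := by
  refine UGen.of_iso (SiteMod.extZeroIso U M) (uGen_shf fun V z => ?_)
  rcases isEmpty_or_nonempty (V ⟶ U) with he | hne
  · obtain ⟨F₀, hF⟩ := SiteMod.exists_finset_component M z
    have hz : z = 0 := by
      rw [hF F₀ le_rfl]
      exact Finset.sum_eq_zero fun φ _ => isEmptyElim φ
    rw [hz]
    exact UGenSec.zero _ _
  · exact ⟨⊤, J.top_mem V, fun W g _ => Or.inl ⟨g ≫ hne.some⟩⟩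

/-- Tensor products with modules living on `U` live on `U`. -/
lemma uGen_tR {A : ModSite.Mod O} (hA : UGen U A) (M : ModSite.Mod O) : UGen U ((tR M).obj A) := by
  refine uGen_shf fun V z => ?_
  refine TensorProduct.induction_on
    (motive := fun z => UGenSec U (pre A ⊗ pre M) V z) z (UGenSec.zero _ _) (fun a m => ?_)
    fun x y hx hy => hx.add hy
  obtain ⟨S, hS, ha⟩ := hA V a
  refine ⟨S, hS, fun W g hg => (ha g hg).imp id fun h => ?_⟩
  exact (map_tp g.op a m).trans ((congrArg (fun t => tp t (res (pre M) g.op m)) h).trans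
    (TensorProduct.zero_tmul _ _))

variable {U}

/-- Vanishing on all objects over `U`. -/
lemma null_apply {Q : ModSite.Mod O} (hQ : ModSite.IsNullOn O U Q) {W : C} (g : W ⟶ U)
    (x : (pre Q).obj (op W)) : x = 0 :=
  (ExtSupp.isNullOn_iff O U Q).1 hQ g x

/-- Modules living on `U` have no maps to modules killed by it. -/
lemma UGen.hom_eq_zero {A Q : ModSite.Mod O} (hA : UGen U A) (hQ : ModSite.IsNullOn O U Q)
    (φ : A ⟶ Q) : φ = 0 := by
  apply fgt.map_injective
  refine PresheafOfModules.hom_ext fun X => ModuleCat.hom_ext (LinearMap.ext fun s => ?_)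
  obtain ⟨S, hS, h⟩ := hA X.unop s
  refine ext_of_sieve hS fun W g hg => ?_
  rcases h g hg with ⟨⟨k⟩⟩ | h0
  · exact (null_apply hQ k _).trans (null_apply hQ k _).symm
  · rw [← app_res]
    exact (congrArg _ h0).trans ((map_zero _).trans (map_zero ((pre Q).map g.op).hom).symm)

/-- Being killed by `U` is inherited by tensor products. -/
lemma isNullOn_tR {Q : ModSite.Mod O} (hQ : ModSite.IsNullOn O U Q) (M : ModSite.Mod O) :
    ModSite.IsNullOn O U ((tR M).obj Q) := by
  refine (ExtSupp.isNullOn_iff O U _).2 fun W g x => ?_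
  obtain ⟨S, hS, hp⟩ := locally_preimage
    ((isIso_shf_map_iff_isLocalIso (shfU (pre Q ⊗ pre M))).1 inferInstance) (op W) x
  refine ext_of_sieve (H := (tR M).obj Q) hS fun V k hk => ?_
  obtain ⟨z, hz⟩ := hp k hk
  have hz0 : z = 0 := by
    refine TensorProduct.induction_on (motive := fun z => z = 0) z rfl (fun a m => ?_)
      fun x y hx hy => by rw [hx, hy, add_zero]
    rw [null_apply hQ (k ≫ g) a]
    exact TensorProduct.zero_tmul _ _
  exact hz.symm.trans ((congrArg _ hz0).trans ((map_zero _).trans (map_zero _).symm))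

/-- The quotient by the part on `U` preserves monomorphisms. -/
theorem mono_quotOn_map [ModSite.HasPushOver O U] {G F : ModSite.Mod O} (φ : G ⟶ F) [Mono φ] :
    Mono ((ModSite.quotOn O U).map φ) := by
  refine mono_of_app_injective _ fun X => (injective_iff_map_eq_zero _).2 fun k hk => ?_
  obtain ⟨V⟩ := X
  have hepi : Epi ((ModSite.quotOnπ O U).app G) := (ExtSupp.openSeq_exact U G).2
  obtain ⟨S, hS, hS'⟩ := exists_preimage ((ModSite.quotOnπ O U).app G) V k
  refine ext_of_sieve (H := (ModSite.quotOn O U).obj G) hS fun W g hg => ?_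
  obtain ⟨m, hm⟩ := hS' g hg
  have hFm : ((ModSite.quotOnπ O U).app F).val.app (op W) (φ.val.app (op W) m) = 0 := by
    have e := LinearMap.congr_fun (congrArg ModuleCat.Hom.hom
      (congrArg (fun ψ : G ⟶ (ModSite.quotOn O U).obj F => ψ.val.app (op W))
        ((ModSite.quotOnπ O U).naturality φ))) m
    refine e.trans ?_
    exact (congrArg (((ModSite.quotOn O U).map φ).val.app (op W)) hm).trans
      ((app_res (fgt.map ((ModSite.quotOn O U).map φ)) g.op k).trans
        ((congrArg (res (pre ((ModSite.quotOn O U).obj F)) g.op) hk).trans (map_zero _)))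
  obtain ⟨T, hT, hT'⟩ := exists_preimage_of_exact _ (ExtSupp.openSeq_exact U F).1 W _ hFm
  have hgen : UGenSec U (pre F) W (φ.val.app (op W) m) := by
    refine UGenSec.of_cover hT fun Z k hk => ?_
    obtain ⟨z, hz⟩ := hT' k hk
    exact Eq.subst (motive := fun t => UGenSec U (pre F) Z t) hz
      ((uGen_extZero U _ Z z).map (fgt.map ((ModSite.extZeroAdj O U).counit.app F)))
  obtain ⟨T', hT'', hgen⟩ := hgen
  rw [show res (pre ((ModSite.quotOn O U).obj G)) g.op (0 : _) = 0 from map_zero _, ← hm]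
  refine ext_of_sieve (H := (ModSite.quotOn O U).obj G) hT'' fun Z l hl => ?_
  rcases hgen l hl with ⟨⟨j⟩⟩ | h0
  · exact (null_apply (ExtSupp.isNullOn_quotOn O U G) j _).trans
      (null_apply (ExtSupp.isNullOn_quotOn O U G) j _).symm
  · have h1 : res (pre G) l.op m = 0 := by
      apply app_injective φ (op Z)
      exact ((app_res (fgt.map φ) l.op m).trans h0).trans (map_zero _).symm
    exact ((app_res (fgt.map ((ModSite.quotOnπ O U).app G)) l.op m).symm).trans
      ((congrArg (((ModSite.quotOnπ O U).app G).val.app (op Z)) h1).trans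
        ((map_zero _).trans (map_zero _).symm))

end Groth.Agent.GSS45
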