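import Groth.Agent.Mod48.ModGen
import Groth.Agent.SiteCoh.ExtCompare
import Groth.Agent.SiteMod.ExtZero
import Groth.Agent.GSS45.UGen
import Groth.Prelude.Def_ExtSupp

/-!
`Ext` along the adjunction of extension by zero and restriction.
-/

set_option autoImplicit false
set_option backward.isDefEq.respectTransparency false

universe w w' u v₁ u₁

open CategoryTheory CategoryTheory.Limits CategoryTheory.Abelian

namespace Groth.Agent.GSS45.ExtAdj

/-- Changing the universe of `Ext` is additive. -/
noncomputable def chgUnivAddEquiv {A : Type u₁} [Category.{v₁} A] [Abelian A] [HasExt.{w} A] [HasExt.{w'} A]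
    (X Y : A) (n : ℕ) : Ext.{w} X Y n ≃+ Ext.{w'} X Y n :=
  AddEquiv.mk' Ext.chgUniv (fun a b => by
    let _ : HasDerivedCategory A := HasDerivedCategory.standard A
    apply Ext.homAddEquiv.injective
    refine Eq.trans ?_ (map_add Ext.homAddEquiv _ _).symm
    change Ext.homEquiv (Ext.chgUniv (a + b)) = Ext.homEquiv (Ext.chgUniv a) + Ext.homEquiv (Ext.chgUniv b)
    rw [Ext.homEquiv_chgUniv, Ext.homEquiv_chgUniv, Ext.homEquiv_chgUniv]
    exact map_add Ext.homAddEquiv a b)

variable {C : Type u} [SmallCategory C] {J : GrothendieckTopology C} {O : Sheaf J CommRingCat.{u}}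

theorem preservesFiniteColimits_restr (U : C) : PreservesFiniteColimits (ModSite.restr O U) := by
  have hl : PreservesFiniteLimits (ModSite.restr O U) := inferInstance
  have : (ModSite.restr O U).PreservesEpimorphisms := ⟨fun {F G} φ hφ => by
    have key : Sheaf.IsLocallySurjective
        ((SheafOfModules.toSheaf (ModSite.ringSh (O.over U))).map ((ModSite.restr O U).map φ)) := by
      refine ⟨fun {Y} s => ?_⟩
      obtain ⟨T, hT, hm⟩ := GSS45.exists_preimage φ Y.left s
      refine (J.over U).superset_covering ?_ ((GrothendieckTopology.mem_over_iff J _).2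
        (by simpa using hT) : (Sieve.overEquiv Y).symm T ∈ J.over U Y)
      intro W g hg
      exact hm g.left ((Sieve.overEquiv_symm_iff T g).1 hg)
    have := (Sheaf.isLocallySurjective_iff_epi' (A := AddCommGrpCat.{u})
      ((SheafOfModules.toSheaf (ModSite.ringSh (O.over U))).map ((ModSite.restr O U).map φ))).1 key
    exact (SheafOfModules.toSheaf (ModSite.ringSh (O.over U))).epi_of_epi_map this⟩
  refine (Functor.preservesFiniteColimits_iff_forall_exact_map_and_epi _).mpr fun S hS => ?_
  have := hS.epi_g
  exact ⟨(((Functor.preservesFiniteLimits_iff_forall_exact_map_and_mono _).mp hl) S hS).1, inferInstance⟩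

/-- `Ext(M_U, N) ≅ Ext(M|_U, N|_U)`. -/
theorem nonempty_ext_openMod [HasExt.{w} (ModSite.Mod O)] (U : C) [HasExt.{w'} (ModSite.Mod (O.over U))]
    (M N : ModSite.Mod O) (i : ℕ) :
    Nonempty (Ext.{w} (ExtSupp.openMod U M) N i ≃+
      Ext.{w'} ((ModSite.restr O U).obj M) ((ModSite.restr O U).obj N) i) := by
  let adj := ModSite.extZeroAdj O U
  let R := ModSite.restr O U
  have : IsGrothendieckAbelian.{u} (ModSite.Mod O) :=
    Coh69.sheafOfModules_isGrothendieckAbelian (ModSite.ringSh O)
  have : EnoughInjectives (ModSite.Mod O) := inferInstance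
  have := SiteMod.extZero_preservesFiniteLimits (O := O) U
  have : (ModSite.extZero O U).PreservesMonomorphisms := preservesMonomorphisms_of_preservesLimitsOfShape _
  have : PreservesFiniteLimits R := inferInstance
  have : PreservesFiniteColimits R := preservesFiniteColimits_restr U
  have : HasExt.{u} (ModSite.Mod O) := hasExt_of_enoughInjectives _
  have : IsGrothendieckAbelian.{u} (ModSite.Mod (O.over U)) :=
    Coh69.sheafOfModules_isGrothendieckAbelian (ModSite.ringSh (O.over U))
  have : HasExt.{u} (ModSite.Mod (O.over U)) := hasExt_of_enoughInjectives _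
  let θ : R.obj M ⟶ R.obj (ExtSupp.openMod U M) := adj.unit.app (R.obj M)
  have hbij : ∀ F : ModSite.Mod O, Function.Bijective (fun g : ExtSupp.openMod U M ⟶ F => θ ≫ R.map g) := fun F => by
    have h : (fun g : ExtSupp.openMod U M ⟶ F => θ ≫ R.map g) = adj.homEquiv (R.obj M) F :=
      funext fun g => (adj.homEquiv_unit _ F g).symm
    rw [h]
    exact (adj.homEquiv _ F).bijective
  let e : Ext.{u} (ExtSupp.openMod U M) N i ≃+ Ext.{u} (R.obj M) (R.obj N) i :=
    AddEquiv.ofBijective (SiteCoh.extTransfer R θ N i)
      (SiteCoh.extTransfer_bijective _ _ hbij (fun I hI k =>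
        have : Injective (R.obj I) := Injective.injective_of_adjoint adj I
        Ext.subsingleton_of_injective _ _ k) i N)
  exact ⟨((chgUnivAddEquiv _ _ i).trans e).trans (chgUnivAddEquiv _ _ i)⟩

end Groth.Agent.GSS45.ExtAdj
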