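import Groth.Agent.GSS45.Single
import Groth.Agent.GSS45.E2
import Groth.Agent.SpSeq49.MapHom
import Mathlib.CategoryTheory.Triangulated.TStructure.SpectralObject
import Mathlib.Algebra.Homology.HomotopyCategory.ShiftSequence

/-!
The spectral sequence of a bounded below complex of acyclic objects.
-/

set_option autoImplicit false
set_option backward.isDefEq.respectTransparency false

universe w v v' u u'

open CategoryTheory Category Limits Pretriangulated ComposableArrows
open DerivedCategory.Plus.TStructure (t)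

namespace Groth.Agent.GSS45

section trunc

variable {C : Type u} [Category.{v} C] [Abelian C] [HasDerivedCategory.{w} C]

lemma isIso_homology_map₁ {T : Triangle (DerivedCategory C)} (hT : T ∈ distTriang _) (n₀ n : ℤ)
    (h : n₀ + 1 = n) (h₀ : IsZero ((DerivedCategory.homologyFunctor C n₀).obj T.obj₃))
    (h₁ : IsZero ((DerivedCategory.homologyFunctor C n).obj T.obj₃)) :
    IsIso ((DerivedCategory.homologyFunctor C n).map T.mor₁) := by
  have : Mono ((DerivedCategory.homologyFunctor C n).map T.mor₁) :=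
    (DerivedCategory.HomologySequence.mono_homologyMap_mor₁_iff T hT n₀ n h).2 (h₀.eq_of_src _ _)
  have : Epi ((DerivedCategory.homologyFunctor C n).map T.mor₁) :=
    (DerivedCategory.HomologySequence.epi_homologyMap_mor₁_iff T hT n).2 (h₁.eq_of_tgt _ _)
  exact isIso_of_mono_of_epi _

lemma isIso_homology_map₂ {T : Triangle (DerivedCategory C)} (hT : T ∈ distTriang _) (n n₁ : ℤ)
    (h : n + 1 = n₁) (h₀ : IsZero ((DerivedCategory.homologyFunctor C n).obj T.obj₁))
    (h₁ : IsZero ((DerivedCategory.homologyFunctor C n₁).obj T.obj₁)) :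
    IsIso ((DerivedCategory.homologyFunctor C n).map T.mor₂) := by
  have : Mono ((DerivedCategory.homologyFunctor C n).map T.mor₂) :=
    (DerivedCategory.HomologySequence.mono_homologyMap_mor₂_iff T hT n).2 (h₀.eq_of_src _ _)
  have : Epi ((DerivedCategory.homologyFunctor C n).map T.mor₂) :=
    (DerivedCategory.HomologySequence.epi_homologyMap_mor₂_iff T hT n n₁ h).2 (h₁.eq_of_tgt _ _)
  exact isIso_of_mono_of_epi _

/-- The cohomology of a one-step truncation. -/
lemma nonempty_homology_trunc (X : DerivedCategory.Plus C) (q : ℤ) :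
    Nonempty ((DerivedCategory.Plus.homologyFunctor C q).obj
        (((t (C := C)).truncGE q).obj (((t (C := C)).truncLT (q + 1)).obj X)) ≅
      (DerivedCategory.Plus.homologyFunctor C q).obj X) := by
  let Y := ((t (C := C)).truncLT (q + 1)).obj X
  have h1 : IsIso ((DerivedCategory.Plus.homologyFunctor C q).map ((t (C := C)).truncLTι (q + 1) |>.app X)) :=
    isIso_homology_map₁ (DerivedCategory.Plus.ι.map_distinguished _ ((t (C := C)).triangleLTGE_distinguished (q + 1) X))
      (q - 1) q (by lia)
      (DerivedCategory.Plus.isZero_homology_of_isGE _ (q + 1) (q - 1) (by lia))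
      (DerivedCategory.Plus.isZero_homology_of_isGE _ (q + 1) q (by lia))
  have h2 : IsIso ((DerivedCategory.Plus.homologyFunctor C q).map ((t (C := C)).truncGEπ q |>.app Y)) :=
    isIso_homology_map₂ (DerivedCategory.Plus.ι.map_distinguished _ ((t (C := C)).triangleLTGE_distinguished q Y))
      q (q + 1) rfl
      (DerivedCategory.Plus.isZero_homology_of_isLE _ (q - 1) q (by lia))
      (DerivedCategory.Plus.isZero_homology_of_isLE _ (q - 1) (q + 1) (by lia))
  exact ⟨(@asIso _ _ _ _ _ h2).symm ≪≫ @asIso _ _ _ _ _ h1⟩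

end trunc

section so

variable {C : Type u} [Category.{v} C] [Abelian C] [HasDerivedCategory.{w} C] [EnoughInjectives C]
  {D : Type u'} [Category.{v'} D] [Abelian D] (G : C ⥤ D) [G.Additive]

/-- The spectral object of the truncations. -/
noncomputable def so (X : DerivedCategory.Plus C) : Abelian.SpectralObject D EInt :=
  SpSeq49.mapHom (((t (C := C)).spectralObject X).mapTriangulatedFunctor (phi G))
    (HomotopyCategory.homologyFunctor D (.up ℤ) 0)

/-- The objects of the spectral object. -/
noncomputable def soIso (X : DerivedCategory.Plus C) (i j : EInt) (h : i ≤ j) (n : ℤ) :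
    ((so G X).H n).obj (mk₁ (homOfLE h)) ≅
      (HΦ G n).obj (((t (C := C)).eTruncGE.obj i).obj (((t (C := C)).eTruncLT.obj j).obj X)) :=
  Iso.refl _

lemma isFirstQuadrant (X : DerivedCategory.Plus C) [X.IsGE 0] : (so G X).IsFirstQuadrant where
  isZero₁ i j h hj n := by
    refine IsZero.of_iso ?_ (soIso G X i j h n)
    exact (HΦ G n).map_isZero (((t (C := C)).eTruncGE.obj i).map_isZero
      ((t (C := C)).isZero_eTruncLT_obj_obj X 0 j hj))
  isZero₂ i j h n hn := by
    refine IsZero.of_iso ?_ (soIso G X i j h n)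
    induction i using WithBotTop.rec with
    | bot => simp at hn
    | coe m => exact isZero_hΦ G (((t (C := C)).truncGE m).obj _) m n (by simpa using hn)
    | top => exact (HΦ G n).map_isZero (by simp)

variable [PreservesFiniteLimits G]

/-- The spectral sequence of a bounded below complex of acyclic objects. -/
theorem exists_spectralSequence_of_complex (K : CochainComplex.Plus C) [K.obj.IsStrictlyGE 0]
    (hK : ∀ (n : ℤ) (q : ℕ), 0 < q → IsZero ((G.rightDerived q).obj (K.obj.X n)))
    {H : ℤ → D} (eH : ∀ n, Nonempty (((G.mapHomologicalComplex (.up ℤ)).obj K.obj).homology n ≅ H n))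
    {E₂ : ℤ → ℤ → D}
    (hE : ∀ p q : ℕ, Nonempty ((G.rightDerived p).obj (K.obj.homology (q : ℤ)) ≅ E₂ p q))
    (hE0 : ∀ p q : ℤ, p < 0 ∨ q < 0 → IsZero (E₂ p q)) :
    ∃ (E : E₂CohomologicalSpectralSequence D) (a : SpSeq.Abutment E H),
      (∀ n, a.IsFinite n) ∧ SpSeq.IsBounded E ∧
        ∀ p q : ℤ, Nonempty ((E.page 2 le_rfl).X (p, q) ≅ E₂ p q) := by
  let X := DerivedCategory.Plus.Q.obj K
  have : X.IsGE 0 := by
    rw [← DerivedCategory.Plus.isGE_ι_obj_iff]
    exact DerivedCategory.TStructure.t.isGE_of_iso (toD K).symm 0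
  have := isFirstQuadrant G X
  refine exists_spectralSequence (so G X)
    (fun n => soIso G X ⊥ ⊤ bot_le n ≪≫ (nonempty_hΦ_acyclic G K hK n).some ≪≫ (eH n).some)
    (fun p q h hp hq => ?_) hE0
  obtain ⟨p, rfl⟩ := Int.eq_ofNat_of_zero_le hp
  obtain ⟨q, rfl⟩ := Int.eq_ofNat_of_zero_le hq
  let Y := ((t (C := C)).truncGE q).obj (((t (C := C)).truncLT ((q : ℤ) + 1)).obj X)
  have : Y.IsLE q := inferInstance
  obtain ⟨S, A, hS, ⟨eA⟩, ⟨eY⟩⟩ := nonempty_iso_shift_single Y q
  obtain ⟨eT⟩ := nonempty_homology_trunc X q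
  exact ⟨soIso G X _ _ h _ ≪≫ (HΦ G _).mapIso eY ≪≫
    hΦShiftIso G _ (-(q : ℤ)) ((p : ℤ) + q) (p : ℤ) (by lia) ≪≫
    (nonempty_hΦ_single G S A hS p).some ≪≫
    (G.rightDerived p).mapIso (eA ≪≫ eT ≪≫ homologyQIso K q) ≪≫ (hE p q).some⟩

end so

end Groth.Agent.GSS45
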