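import Mathlib.Algebra.Homology.DerivedCategory.DerivabilityStructureInjectives
import Mathlib.Algebra.Homology.HomotopyCategory.ShiftSequence
import Mathlib.Algebra.Homology.HomotopyCategory.HomologicalFunctor
import Mathlib.CategoryTheory.Triangulated.Adjunction
import Mathlib.CategoryTheory.Abelian.Injective.Resolution
import Mathlib.CategoryTheory.Preadditive.Injective.Resolution

/-!
The triangulated functor on the bounded below derived category computed by injective complexes.
-/

set_option autoImplicit false

universe w v v' u u'

open CategoryTheory Category Limits Pretriangulated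

namespace Groth.Agent.GSS45

variable {C : Type u} [Category.{v} C] [Abelian C] [HasDerivedCategory.{w} C]

/-- Complexes of injectives in the derived category. -/
noncomputable abbrev injK : HomotopyCategory.Plus (InjectiveObject C) ⥤ DerivedCategory.Plus C :=
  (InjectiveObject.ι C).mapHomotopyCategoryPlus ⋙ DerivedCategory.Plus.Qh

lemma injK_bijective (K L : HomotopyCategory.Plus (InjectiveObject C)) :
    Function.Bijective ((injK (C := C)).map : (K ⟶ L) → _) := by
  obtain ⟨L, rfl⟩ := HomotopyCategory.Plus.quotient_obj_surjective L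
  exact (DerivedCategory.Plus.Qh_map_bijective_of_isKInjective _ _ (inferInstanceAs
    (CochainComplex.IsKInjective (((InjectiveObject.ι C).mapHomologicalComplex (.up ℤ)).obj L.obj)))).comp
    ⟨(InjectiveObject.ι C).mapHomotopyCategoryPlus.map_injective,
      (InjectiveObject.ι C).mapHomotopyCategoryPlus.map_surjective⟩

instance : (injK (C := C)).Faithful where
  map_injective {K L} := (injK_bijective K L).1

instance : (injK (C := C)).Full where
  map_surjective {K L} := (injK_bijective K L).2

variable [EnoughInjectives C]

instance : (injK (C := C)).IsEquivalence where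

/-- The equivalence between complexes of injectives and the bounded below derived category. -/
noncomputable abbrev injEquiv : HomotopyCategory.Plus (InjectiveObject C) ≌ DerivedCategory.Plus C :=
  (injK (C := C)).asEquivalence

noncomputable instance : (injEquiv (C := C)).functor.CommShift ℤ :=
  inferInstanceAs ((injK (C := C)).CommShift ℤ)

noncomputable instance : (injEquiv (C := C)).inverse.CommShift ℤ :=
  (injEquiv (C := C)).commShiftInverse ℤ

instance : (injEquiv (C := C)).CommShift ℤ := (injEquiv (C := C)).commShift_of_functor ℤ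

instance : (injEquiv (C := C)).IsTriangulated :=
  Equivalence.IsTriangulated.mk' _ (inferInstanceAs (injK (C := C)).IsTriangulated)

variable {D : Type u'} [Category.{v'} D] [Abelian D] (G : C ⥤ D) [G.Additive]

/-- The functor induced on complexes of injectives. -/
noncomputable abbrev injG : HomotopyCategory.Plus (InjectiveObject C) ⥤ HomotopyCategory D (.up ℤ) :=
  HomotopyCategory.Plus.ι (InjectiveObject C) ⋙ (InjectiveObject.ι C ⋙ G).mapHomotopyCategory (.up ℤ)

/-- The derived functor on the bounded below derived category. -/
noncomputable abbrev phi : DerivedCategory.Plus C ⥤ HomotopyCategory D (.up ℤ) :=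
  (injEquiv (C := C)).inverse ⋙ injG G

instance : (phi G).IsTriangulated := inferInstance

/-- The cohomology of the derived functor. -/
noncomputable abbrev HΦ (n : ℤ) : DerivedCategory.Plus C ⥤ D :=
  phi G ⋙ HomotopyCategory.homologyFunctor D (.up ℤ) n

/-- The derived functor is computed by complexes of injectives. -/
noncomputable def hΦIso (J : CochainComplex.Plus (InjectiveObject C)) (n : ℤ) :
    (HΦ G n).obj (DerivedCategory.Plus.Q.obj ((InjectiveObject.ι C).mapCochainComplexPlus.obj J)) ≅
      ((G.mapHomologicalComplex (.up ℤ)).obj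
        (((InjectiveObject.ι C).mapHomologicalComplex (.up ℤ)).obj J.obj)).homology n :=
  (injG G ⋙ HomotopyCategory.homologyFunctor D (.up ℤ) n).mapIso
      ((injEquiv (C := C)).unitIso.app ((HomotopyCategory.Plus.quotient _).obj J)).symm ≪≫
    (HomotopyCategory.homologyFunctorFactors D (.up ℤ) n).app
      ((G.mapHomologicalComplex (.up ℤ)).obj
        (((InjectiveObject.ι C).mapHomologicalComplex (.up ℤ)).obj J.obj))

omit [HasDerivedCategory C] [EnoughInjectives C] in
lemma exists_lift (K : CochainComplex.Plus C) [hK : ∀ n, Injective (K.obj.X n)] :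
    ∃ J : CochainComplex.Plus (InjectiveObject C),
      Nonempty (((InjectiveObject.ι C).mapCochainComplexPlus.obj J) ≅ K) := by
  obtain ⟨K, a, ha⟩ := K
  refine ⟨⟨HomologicalComplex.liftObjectProperty _ K hK, a, ?_⟩, ⟨Iso.refl _⟩⟩
  rw [← CochainComplex.isStrictlyGE_mapHomologicalComplex_obj_iff _ (InjectiveObject.ι _)]
  exact ha

/-- A bounded below complex of injectives computes the derived functor. -/
lemma nonempty_hΦIso (K : CochainComplex.Plus C) [∀ n, Injective (K.obj.X n)] (n : ℤ) :
    Nonempty ((HΦ G n).obj (DerivedCategory.Plus.Q.obj K) ≅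
      ((G.mapHomologicalComplex (.up ℤ)).obj K.obj).homology n) := by
  obtain ⟨J, ⟨e⟩⟩ := exists_lift K
  exact ⟨(HΦ G n).mapIso (DerivedCategory.Plus.Q.mapIso e.symm) ≪≫ hΦIso G J n ≪≫
    HomologicalComplex.homologyMapIso
      ((G.mapHomologicalComplex (.up ℤ)).mapIso ((CochainComplex.Plus.ι C).mapIso e)) n⟩

/-- The derived functor of an object in degrees at least `a` is in degrees at least `a`. -/
lemma isZero_hΦ (X : DerivedCategory.Plus C) (a : ℤ) [X.IsGE a] (n : ℤ) (hn : n < a) :
    IsZero ((HΦ G n).obj X) := by
  obtain ⟨J, hJ, ⟨e⟩⟩ := DerivedCategory.Plus.exists_injective_nonempty_iso X a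
  refine IsZero.of_iso ?_ ((HΦ G n).mapIso e.symm ≪≫ hΦIso G J n)
  refine HomologicalComplex.ExactAt.isZero_homology ?_
  refine ShortComplex.exact_of_isZero_X₂ _ ?_
  exact G.map_isZero ((InjectiveObject.ι C).map_isZero (J.obj.isZero_of_isStrictlyGE a n hn))

/-- Shifting. -/
noncomputable def hΦShiftIso (X : DerivedCategory.Plus C) (a n m : ℤ) (h : a + n = m) :
    (HΦ G n).obj (X⟦a⟧) ≅ (HΦ G m).obj X :=
  (HomotopyCategory.homologyFunctor D (.up ℤ) n).mapIso (((phi G).commShiftIso a).app X) ≪≫
    ((HomotopyCategory.homologyFunctor D (.up ℤ) 0).shiftIso a n m h).app ((phi G).obj X)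

end Groth.Agent.GSS45
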